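import Mathlib
import Groth.Agent.CohCmpLib.PuSec
import Groth.Agent.CohCmpLib.LineBundle
import Groth.Agent.TwistLib.Basic
import Groth.Agent.TwistLib.ProjSymExt
import Groth.Agent.DiscExtLib.Glue
import Groth.Agent.CohCmpLib.Eps
import Groth.Agent.SeesawLib.Pulled

/-!
# Quotients of a module: comparison and gluing
-/

set_option autoImplicit false
set_option linter.style.haveILetI false
set_option linter.unusedSectionVars false

universe u

open AlgebraicGeometry CategoryTheory CategoryTheory.Limits Opposite TopologicalSpace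
open AmpleLib (res GenOn GenAt)
open KFlatLib (pb puSec)

noncomputable section

namespace ProjBunLib

variable {T S : Scheme.{u}}

/-- Two quotients killing the same sections are isomorphic. -/
theorem exists_iso_of_kills {M L L' : T.Modules} (s : M ⟶ L) (s' : M ⟶ L') [Epi s] [Epi s']
    (h : ∀ (W : T.Opens) (m : Γ(M, W)), s.app W m = 0 ↔ s'.app W m = 0) :
    ∃ e : L ≅ L', s ≫ e.hom = s' := by
  have hk : ∀ {L₁ L₂ : T.Modules} (t₁ : M ⟶ L₁) (t₂ : M ⟶ L₂),
      (∀ (W : T.Opens) (m : Γ(M, W)), t₁.app W m = 0 → t₂.app W m = 0) → kernel.ι t₁ ≫ t₂ = 0 :=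
    fun t₁ t₂ h => Scheme.Modules.hom_ext _ _ fun W => ConcreteCategory.hom_ext _ _ fun k =>
      h W _ (congr($(kernel.condition t₁).app W k))
  let d : L ⟶ L' := (Abelian.epiIsCokernelOfKernel _ (limit.isLimit (parallelPair s 0))).desc
    (CokernelCofork.ofπ s' (hk s s' fun W m => (h W m).1))
  let d' : L' ⟶ L := (Abelian.epiIsCokernelOfKernel _ (limit.isLimit (parallelPair s' 0))).desc
    (CokernelCofork.ofπ s (hk s' s fun W m => (h W m).2))
  have e1 : s ≫ d = s' := (Abelian.epiIsCokernelOfKernel _ (limit.isLimit (parallelPair s 0))).fac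
    (CokernelCofork.ofπ s' (hk s s' fun W m => (h W m).1)) WalkingParallelPair.one
  have e2 : s' ≫ d' = s := (Abelian.epiIsCokernelOfKernel _ (limit.isLimit (parallelPair s' 0))).fac
    (CokernelCofork.ofπ s (hk s' s fun W m => (h W m).2)) WalkingParallelPair.one
  exact ⟨⟨d, d', by rw [← cancel_epi s, ← Category.assoc, e1, e2, Category.comp_id],
    by rw [← cancel_epi s', ← Category.assoc, e2, e1, Category.comp_id]⟩, e1⟩

/-- Along an open immersion, sections over opens in the image correspond. -/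
theorem puSec_bijective (j : S ⟶ T) [IsOpenImmersion j] (M : T.Modules) {W : T.Opens} (hW : W ≤ j.opensRange) :
    Function.Bijective (fun m : Γ(M, W) => puSec j m) := by
  have hW' : W ≤ j ''ᵁ j ⁻¹ᵁ W := fun x hx => by
    obtain ⟨y, rfl⟩ := hW hx
    exact ⟨y, hx, rfl⟩
  let φ : Γ(M, W) → Γ(pb j M, j ⁻¹ᵁ W) := fun m =>
    ((Scheme.Modules.restrictFunctorIsoPullback j).hom.app M).app (j ⁻¹ᵁ W)
      ((M.restrictAppIso j (j ⁻¹ᵁ W)).inv (res M (j.image_preimage_le W) m))
  have hφ : (fun m : Γ(M, W) => puSec j m) = φ := funext fun m => by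
    refine Eq.trans ?_ (CohCmpLib.restrictIso_puSec j M m le_rfl).symm
    exact (congr($((pb j M).presheaf.map_id _) (puSec j m))).symm
  rw [hφ]
  refine (ConcreteCategory.bijective_of_isIso _).comp ((ConcreteCategory.bijective_of_isIso _).comp ?_)
  refine ⟨fun a b hab => ?_, fun b => ⟨res M hW' b, by rw [AmpleLib.res_res, AmpleLib.res_refl]⟩⟩
  have := congrArg (res M hW') hab
  rwa [AmpleLib.res_res, AmpleLib.res_refl, AmpleLib.res_res, AmpleLib.res_refl] at this

theorem puSec_zero (j : S ⟶ T) (M : T.Modules) {W : T.Opens} : puSec j (0 : Γ(M, W)) = 0 :=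
  map_zero (((Scheme.Modules.pullbackPushforwardAdjunction j).unit.app M).app W).hom

theorem puSec_eq_zero_iff (j : S ⟶ T) [IsOpenImmersion j] (M : T.Modules) {W : T.Opens} (hW : W ≤ j.opensRange)
    (m : Γ(M, W)) : puSec j m = 0 ↔ m = 0 :=
  ⟨fun h => (puSec_bijective j M hW).1 (h.trans (puSec_zero j M).symm), fun h => by rw [h, puSec_zero]⟩

theorem epi_map (j : S ⟶ T) {M L : T.Modules} (s : M ⟶ L) [Epi s] : Epi ((Scheme.Modules.pullback j).map s) := by
  haveI := (Scheme.Modules.pullbackPushforwardAdjunction j).isLeftAdjoint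
  exact Functor.map_epi _ _

/-- Quotients given on an open cover with the same kernels on overlaps glue. -/
theorem exists_glue_quot {M : T.Modules} {J : Type u} (V : J → T.Opens) (hV : ∀ x : T, ∃ j, x ∈ V j)
    (L : ∀ j, (V j).toScheme.Modules) (hL : ∀ j, PicF.IsInvertible (L j))
    (s : ∀ j, pb (V j).ι M ⟶ L j) (hs : ∀ j, Epi (s j))
    (compat : ∀ i j (W : T.Opens), W ≤ V i → W ≤ V j → ∀ m : Γ(M, W),
      (s i).app ((V i).ι ⁻¹ᵁ W) (puSec (V i).ι m) = 0 → (s j).app ((V j).ι ⁻¹ᵁ W) (puSec (V j).ι m) = 0) :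
    ∃ (L₀ : T.Modules) (s₀ : M ⟶ L₀), PicF.IsInvertible L₀ ∧ Epi s₀ ∧
      ∀ j, ∃ e : pb (V j).ι L₀ ≅ L j, (Scheme.Modules.pullback (V j).ι).map s₀ ≫ e.hom = s j := by
  classical
  let N : J → T.Modules := fun j => (Scheme.Modules.pushforward (V j).ι).obj (L j)
  let u : M ⟶ ∏ᶜ N := Pi.lift fun j => (Scheme.Modules.pullbackPushforwardAdjunction (V j).ι).homEquiv _ _ (s j)
  have hu : ∀ j (W : T.Opens) (m : Γ(M, W)),
      (Pi.π N j).app W (u.app W m) = (s j).app ((V j).ι ⁻¹ᵁ W) (puSec (V j).ι m) := fun j W m => by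
    refine (congr($(Pi.lift_π (fun j => (Scheme.Modules.pullbackPushforwardAdjunction (V j).ι).homEquiv _ _ (s j)) j).app W m)).trans ?_
    rw [Adjunction.homEquiv_unit]
    rfl
  have hu0 : ∀ (W : T.Opens) (m : Γ(M, W)),
      u.app W m = 0 ↔ ∀ j, (s j).app ((V j).ι ⁻¹ᵁ W) (puSec (V j).ι m) = 0 := fun W m => by
    refine ⟨fun h j => ?_, fun h => (DiscExtLib.pi_sections N W).1 (funext fun j => ?_)⟩
    · rw [← hu, h, map_zero]
      rfl
    · refine ((hu j W m).trans (h j)).trans ?_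
      exact (map_zero _).symm
  have hVu : ∀ j (W : T.Opens), W ≤ V j → ∀ m : Γ(M, W),
      (s j).app ((V j).ι ⁻¹ᵁ W) (puSec (V j).ι m) = 0 → u.app W m = 0 := fun j W hW m h => (hu0 W m).2 fun i => by
    have h1 : (s j).app ((V j).ι ⁻¹ᵁ (W ⊓ V i)) (puSec (V j).ι (res M (inf_le_left : W ⊓ V i ≤ W) m)) = 0 := by
      rw [TwistLib.puSec_res]
      refine (QCohLib.app_map (s j) (homOfLE ((V j).ι.preimage_mono inf_le_left)) _).trans ?_
      rw [h, map_zero]
    have h2 := compat j i (W ⊓ V i) (inf_le_left.trans hW) inf_le_right _ h1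
    rw [TwistLib.puSec_res] at h2
    have h3 := (QCohLib.app_map (s i) (homOfLE ((V i).ι.preimage_mono (inf_le_left : W ⊓ V i ≤ W))) _).symm.trans h2
    have hle : (V i).ι ⁻¹ᵁ W ≤ (V i).ι ⁻¹ᵁ (W ⊓ V i) := fun x hx => ⟨hx, x.2⟩
    have h4 := congrArg (res (L i) hle) h3
    rwa [show res (L i) hle 0 = 0 from map_zero _, show ∀ z : Γ(L i, (V i).ι ⁻¹ᵁ W), res (L i) hle ((L i).presheaf.map
      (homOfLE ((V i).ι.preimage_mono (inf_le_left : W ⊓ V i ≤ W))).op z) = z from fun z =>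
        (AmpleLib.res_res (L i) _ _ z).trans (AmpleLib.res_refl _ _)] at h4
  let s₀ : M ⟶ cokernel (kernel.ι u) := cokernel.π _
  haveI : Epi s₀ := inferInstanceAs (Epi (cokernel.π _))
  have hs₀ : ∀ (W : T.Opens) (m : Γ(M, W)), s₀.app W m = 0 ↔ u.app W m = 0 := fun W m => by
    constructor
    · intro h
      obtain ⟨k, hk⟩ := QCohLib.exists_of_app_eq_zero (S := ShortComplex.mk (kernel.ι u) s₀ (cokernel.condition _))
        (ShortComplex.exact_of_g_is_cokernel _ (cokernelIsCokernel (kernel.ι u))) inferInstance m h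
      rw [← hk]
      exact congr($(kernel.condition u).app W k)
    · intro h
      obtain ⟨k, hk⟩ := CohCmpLib.exists_lift_kernel u m h
      rw [← hk]
      exact congr($(cokernel.condition (kernel.ι u)).app W k)
  have hiso : ∀ j, ∃ e : pb (V j).ι (cokernel (kernel.ι u)) ≅ L j,
      (Scheme.Modules.pullback (V j).ι).map s₀ ≫ e.hom = s j := fun j => by
    haveI := hs j
    haveI := epi_map (V j).ι s₀
    refine exists_iso_of_kills _ _ fun W' m' => ?_
    obtain ⟨W, rfl⟩ : ∃ W, W' = (V j).ι ⁻¹ᵁ W := ⟨_, ((V j).ι.preimage_image_eq W').symm⟩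
    have hW : W ⊓ V j ≤ (V j).ι.opensRange := by rw [Scheme.Opens.opensRange_ι]; exact inf_le_right
    have hle : (V j).ι ⁻¹ᵁ W ≤ (V j).ι ⁻¹ᵁ (W ⊓ V j) := fun x hx => ⟨hx, x.2⟩
    have hge : (V j).ι ⁻¹ᵁ (W ⊓ V j) ≤ (V j).ι ⁻¹ᵁ W := (V j).ι.preimage_mono inf_le_left
    obtain ⟨m, hm⟩ := (puSec_bijective (V j).ι M hW).2 (res _ hge m')
    dsimp only at hm
    have key : ∀ {K : (V j).toScheme.Modules} (φ : pb (V j).ι M ⟶ K),
        φ.app _ m' = 0 ↔ φ.app _ (puSec (V j).ι m) = 0 := fun {K} φ => by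
      rw [hm]
      refine ⟨fun h => (QCohLib.app_map φ (homOfLE hge) m').trans (by rw [h, map_zero]), fun h => ?_⟩
      have h' := congrArg (res K hle) ((QCohLib.app_map φ (homOfLE hge) m').symm.trans h)
      rwa [show res K hle 0 = 0 from map_zero _, show res K hle (res K hge (φ.app _ m')) = φ.app _ m' from
        (AmpleLib.res_res K _ _ _).trans (AmpleLib.res_refl _ _)] at h'
    rw [key, key, KFlatLib.puSec_natural, puSec_eq_zero_iff _ _ hW, hs₀]
    exact ⟨fun h => (hu0 _ _).1 h j, hVu j _ inf_le_right m⟩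
  refine ⟨_, s₀, ?_, inferInstance, hiso⟩
  have hloc : ∀ x : T, ∃ (W : T.Opens) (_ : x ∈ W) (e : Γ(cokernel (kernel.ι u), W)), GenOn _ e := fun x => by
    obtain ⟨j, hj⟩ := hV x
    obtain ⟨e, -⟩ := hiso j
    have hinv : PicF.IsInvertible (pb (V j).ι (cokernel (kernel.ι u))) :=
      (CohCmpLib.invertible_iff_rank_one _).2 (SeesawLib.isFinLocFreeOfRank_of_iso
        ((CohCmpLib.invertible_iff_rank_one _).1 (hL j)) e)
    obtain ⟨U', σ, hxU, hσ⟩ := TwistLib.exists_genOn hinv ⟨x, hj⟩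
    have hW : (V j).ι ''ᵁ U' ≤ (V j).ι.opensRange := (V j).ι.image_le_opensRange U'
    have hU : (V j).ι ⁻¹ᵁ ((V j).ι ''ᵁ U') ≤ U' := ((V j).ι.preimage_image_eq U').le
    obtain ⟨σ', hσ'⟩ := (puSec_bijective (V j).ι _ hW).2 (res _ hU σ)
    dsimp only at hσ'
    refine ⟨(V j).ι ''ᵁ U', ⟨⟨x, hj⟩, hxU, rfl⟩, σ', fun W hWle => ?_⟩
    have hWr : W ≤ (V j).ι.opensRange := hWle.trans hW
    have hb := (hσ.res hU) ((V j).ι ⁻¹ᵁ W) ((V j).ι.preimage_mono hWle)
    have happ : Function.Bijective ((V j).ι.app W) := by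
      have := (V j).ι.isIso_app W hWr
      exact ConcreteCategory.bijective_of_isIso _
    refine (Function.Bijective.of_comp_iff' (puSec_bijective (V j).ι _ hWr) _).1 ?_
    rw [show ((fun m => puSec (V j).ι m) ∘ fun r : Γ(T, W) => r • res _ hWle σ') =
      (fun r => r • res _ ((V j).ι.preimage_mono hWle) (res _ hU σ)) ∘ (V j).ι.app W from funext fun r => by
        simp only [Function.comp_apply]
        rw [TwistLib.puSec_smul, TwistLib.puSec_res, hσ']]
    exact hb.comp happ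
  choose W hW e he using hloc
  exact TwistLib.isInvertible_of_genOn W (fun x => ⟨x, hW x⟩) e he

end ProjBunLib

end
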