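import Mathlib
import Groth.Agent.ProjBunLib.Quot
import Groth.Agent.CohCmpLib.PullZero
import Groth.Agent.CycPBLib.ProjBC

/-!
# The functor of invertible quotients of a module
-/

set_option autoImplicit false
set_option linter.style.haveILetI false
set_option linter.unusedSectionVars false

universe u

open AlgebraicGeometry CategoryTheory CategoryTheory.Limits Opposite TopologicalSpace
open AmpleLib (res GenOn GenAt)
open KFlatLib (pb puSec)
open CycPBLib (compQ comp_apply_puSec hom_ext_pu hom_ext_pu₂)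

noncomputable section

namespace ProjBunLib

variable {X : Scheme.{u}} (E : X.Modules)

/-- An invertible quotient of the pullback of `E`. -/
structure Pt (T : Scheme.{u}) : Type (u + 1) where
  g : T ⟶ X
  L : T.Modules
  inv : PicF.IsInvertible L
  s : pb g E ⟶ L
  epi : Epi s

variable {E} {T T' T'' : Scheme.{u}}

/-- Isomorphism of quotients. -/
def Pt.Rel (P Q : Pt E T) : Prop :=
  ∃ (hg : P.g = Q.g) (e : P.L ≅ Q.L), (Scheme.Modules.pullbackCongr hg).inv.app E ≫ P.s ≫ e.hom = Q.s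

theorem Pt.Rel.refl (P : Pt E T) : P.Rel P := ⟨rfl, Iso.refl _, by simp [Scheme.Modules.pullbackCongr]⟩

theorem Pt.Rel.symm {P Q : Pt E T} (h : P.Rel Q) : Q.Rel P := by
  obtain ⟨g, L, hL, s, hs⟩ := P
  obtain ⟨g', L', hL', s', hs'⟩ := Q
  obtain ⟨hg, e, he⟩ := h
  dsimp only at hg
  subst hg
  change L ≅ L' at e
  have he' : s ≫ e.hom = s' := by simpa [Scheme.Modules.pullbackCongr] using he
  refine ⟨rfl, e.symm, ?_⟩
  show (Scheme.Modules.pullbackCongr rfl).inv.app E ≫ s' ≫ e.inv = s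
  subst he'
  rw [Category.assoc, e.hom_inv_id, Category.comp_id]
  simp [Scheme.Modules.pullbackCongr]

theorem Pt.Rel.trans {P Q R : Pt E T} (h : P.Rel Q) (h' : Q.Rel R) : P.Rel R := by
  obtain ⟨g, L, hL, s, hs⟩ := P
  obtain ⟨g', L', hL', s', hs'⟩ := Q
  obtain ⟨g'', L'', hL'', s'', hs''⟩ := R
  obtain ⟨hg, e, he⟩ := h
  obtain ⟨hg', e', he'⟩ := h'
  dsimp only at hg hg'
  subst hg hg'
  have h1 : s ≫ e.hom = s' := by simpa [Scheme.Modules.pullbackCongr] using he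
  have h2 : s' ≫ e'.hom = s'' := by simpa [Scheme.Modules.pullbackCongr] using he'
  refine ⟨rfl, e ≪≫ e', ?_⟩
  show (Scheme.Modules.pullbackCongr rfl).inv.app E ≫ s ≫ e.hom ≫ e'.hom = s''
  rw [← Category.assoc s, h1, h2]
  simp [Scheme.Modules.pullbackCongr]

/-- The universal composite on pulled sections. -/
theorem compQ_app {p : T ⟶ X} {O1 : T.Modules} (q : pb p E ⟶ O1) {f : T' ⟶ T} {g : T' ⟶ X} (hf : f ≫ p = g)
    {L : T'.Modules} (i : pb f O1 ⟶ L) {W : X.Opens} (m : Γ(E, W)) :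
    (compQ q hf i).app (g ⁻¹ᵁ W) (puSec g m) = L.presheaf.map (eqToHom (by rw [← hf]; rfl)).op
      (i.app (f ⁻¹ᵁ (p ⁻¹ᵁ W)) (puSec f (q.app (p ⁻¹ᵁ W) (puSec p m)))) :=
  comp_apply_puSec q hf i m

/-- A composite is a given map if it is so on pulled sections. -/
theorem compQ_eq_of_sec {p : T ⟶ X} {O1 : T.Modules} (q : pb p E ⟶ O1) {f : T' ⟶ T} {g : T' ⟶ X} (hf : f ≫ p = g)
    {L : T'.Modules} (i : pb f O1 ⟶ L) (t : pb g E ⟶ L) (h : ∀ (W : X.Opens) (m : Γ(E, W)),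
      L.presheaf.map (eqToHom (by rw [← hf]; rfl)).op
        (i.app (f ⁻¹ᵁ (p ⁻¹ᵁ W)) (puSec f (q.app (p ⁻¹ᵁ W) (puSec p m)))) = t.app (g ⁻¹ᵁ W) (puSec g m)) :
    compQ q hf i = t :=
  hom_ext_pu _ _ _ fun W m => (compQ_app q hf i m).trans (h W m)

/-- Two local quotients with isomorphic restrictions kill the same sections of the pullback. -/
theorem compQ_pullbackComp {A B W : Scheme.{u}} {g : T ⟶ X} {a : A ⟶ T} {b : B ⟶ T} {ka : W ⟶ A} {kb : W ⟶ B}
    {c : W ⟶ T} (hka : ka ≫ a = c) (hkb : kb ≫ b = c) {LA : A.Modules} {LB : B.Modules}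
    (ta : pb (a ≫ g) E ⟶ LA) (tb : pb (b ≫ g) E ⟶ LB) {e : pb ka LA ⟶ pb kb LB}
    (hgg : ka ≫ a ≫ g = kb ≫ b ≫ g) (he : compQ ta hgg e =
      (Scheme.Modules.pullbackComp kb (b ≫ g)).inv.app E ≫ (Scheme.Modules.pullback kb).map tb) :
    compQ ((Scheme.Modules.pullbackComp a g).hom.app E ≫ ta) hka e =
      compQ ((Scheme.Modules.pullbackComp b g).hom.app E ≫ tb) hkb (𝟙 _) := by
  have hv : ∀ {Y : Scheme.{u}} (y : Y ⟶ T) {N : Y.Modules} (t : pb (y ≫ g) E ⟶ N) (U : X.Opens) (m : Γ(E, U)),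
      ((Scheme.Modules.pullbackComp y g).hom.app E ≫ t).app (y ⁻¹ᵁ (g ⁻¹ᵁ U)) (puSec y (puSec g m)) =
        t.app ((y ≫ g) ⁻¹ᵁ U) (puSec (y ≫ g) m) := fun y _ t U m =>
    congrArg (t.app _) (CohCmpLib.pullbackComp_puSec y g E m)
  have hnat : ∀ (U : X.Opens) (m : Γ(E, U)),
      ((Scheme.Modules.pullbackComp kb (b ≫ g)).inv.app E ≫ (Scheme.Modules.pullback kb).map tb).app
        ((kb ≫ b ≫ g) ⁻¹ᵁ U) (puSec (kb ≫ b ≫ g) m) = puSec kb (tb.app ((b ≫ g) ⁻¹ᵁ U) (puSec (b ≫ g) m)) := by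
    intro U m
    show ((Scheme.Modules.pullback kb).map tb).app _
      (((Scheme.Modules.pullbackComp kb (b ≫ g)).inv.app E).app _ (puSec (kb ≫ b ≫ g) m)) = _
    rw [CohCmpLib.pullbackComp_inv_puSec]
    exact KFlatLib.puSec_natural kb tb (puSec (b ≫ g) m)
  refine hom_ext_pu₂ _ _ _ _ fun U m => ?_
  refine (compQ_app (E := pb g E) _ hka e (puSec g m)).trans
    (Eq.trans ?_ (compQ_app (E := pb g E) _ hkb (𝟙 _) (puSec g m)).symm)
  rw [hv a ta, hv b tb]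
  have h1 := (compQ_app ta hgg e m).symm.trans
    ((congr($(he).app ((kb ≫ b ≫ g) ⁻¹ᵁ U) (puSec (kb ≫ b ≫ g) m))).trans (hnat U m))
  refine Eq.trans ?_ (congrArg ((pb kb LB).presheaf.map _) h1)
  exact (QCohLib.map_map' (pb kb LB) _ _ _).symm

/-- Pullback of a quotient. -/
def Pt.map (h : T' ⟶ T) (P : Pt E T) : Pt E T' where
  g := h ≫ P.g
  L := pb h P.L
  inv := AmpleDevLib.isInvertible_pb h P.inv
  s := (Scheme.Modules.pullbackComp h P.g).inv.app E ≫ (Scheme.Modules.pullback h).map P.s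
  epi := haveI := P.epi; haveI := epi_map h P.s; inferInstance

theorem Pt.map_rel (h : T' ⟶ T) {P Q : Pt E T} (hPQ : P.Rel Q) : (P.map h).Rel (Q.map h) := by
  obtain ⟨g, L, hL, s, hs⟩ := P
  obtain ⟨g', L', hL', s', hs'⟩ := Q
  obtain ⟨hg, e, he⟩ := hPQ
  dsimp only at hg
  subst hg
  have h1 : s ≫ e.hom = s' := by simpa [Scheme.Modules.pullbackCongr] using he
  refine ⟨rfl, (Scheme.Modules.pullback h).mapIso e, ?_⟩
  show (Scheme.Modules.pullbackCongr rfl).inv.app E ≫ ((Scheme.Modules.pullbackComp h g).inv.app E ≫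
    (Scheme.Modules.pullback h).map s) ≫ (Scheme.Modules.pullback h).map e.hom = _
  rw [Category.assoc, ← Functor.map_comp, h1]
  simp [Pt.map, Scheme.Modules.pullbackCongr]

theorem Pt.map_s_puSec (h : T' ⟶ T) (P : Pt E T) {W : X.Opens} (m : Γ(E, W)) :
    (P.map h).s.app ((h ≫ P.g) ⁻¹ᵁ W) (puSec (h ≫ P.g) m) = puSec h (P.s.app (P.g ⁻¹ᵁ W) (puSec P.g m)) := by
  show ((Scheme.Modules.pullback h).map P.s).app _
    (((Scheme.Modules.pullbackComp h P.g).inv.app E).app _ (puSec (h ≫ P.g) m)) = _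
  rw [CohCmpLib.pullbackComp_inv_puSec]
  exact KFlatLib.puSec_natural h P.s (puSec P.g m)

/-- Being isomorphic is read off from the universal expression. -/
theorem Pt.rel_map_iff (h : T' ⟶ T) (P : Pt E T) (Q : Pt E T') :
    (P.map h).Rel Q ↔ ∃ (hg : h ≫ P.g = Q.g) (e : pb h P.L ≅ Q.L), compQ P.s hg e.hom = Q.s := by
  refine ⟨fun ⟨hg, e, he⟩ => ⟨hg, e, ?_⟩, fun ⟨hg, e, he⟩ => ⟨hg, e, ?_⟩⟩
  · rw [← he]
    simp [compQ, Pt.map]
  · rw [← he]
    simp [compQ, Pt.map]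

theorem pullbackId_puSec {M : T.Modules} {U : T.Opens} (m : Γ(M, U)) :
    ((Scheme.Modules.pullbackId T).hom.app M).app ((𝟙 T) ⁻¹ᵁ U) (puSec (𝟙 T) m) = m := by
  have h0 := unit_conjugateEquiv (Adjunction.id (C := T.Modules))
    (Scheme.Modules.pullbackPushforwardAdjunction (𝟙 T)) (Scheme.Modules.pullbackId T).hom M
  rw [Scheme.Modules.conjugateEquiv_pullbackId_hom] at h0
  exact congr(Scheme.Modules.Hom.app $h0 U m).symm

theorem Pt.map_id_rel (P : Pt E T) : (P.map (𝟙 T)).Rel P := by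
  rw [Pt.rel_map_iff]
  refine ⟨Category.id_comp _, (Scheme.Modules.pullbackId T).app P.L, hom_ext_pu _ _ _ fun W m => ?_⟩
  rw [compQ, comp_apply_puSec]
  refine (congrArg (P.L.presheaf.map _) (pullbackId_puSec _)).trans ?_
  exact congr($(P.L.presheaf.map_id _) _)

theorem Pt.map_comp_rel (h' : T'' ⟶ T') (h : T' ⟶ T) (P : Pt E T) : ((P.map h).map h').Rel (P.map (h' ≫ h)) := by
  rw [Pt.rel_map_iff]
  refine ⟨(Category.assoc _ _ _).symm, (Scheme.Modules.pullbackComp h' h).app P.L,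
    compQ_eq_of_sec _ _ _ _ fun W m => Eq.trans ?_ (Pt.map_s_puSec (h' ≫ h) P m).symm⟩
  refine (congr($((pb (h' ≫ h) P.L).presheaf.map_id _) _)).trans ?_
  exact (congrArg (fun z => ((Scheme.Modules.pullbackComp h' h).hom.app P.L).app (h' ⁻¹ᵁ (h ⁻¹ᵁ (P.g ⁻¹ᵁ W)))
    (puSec h' z)) (Pt.map_s_puSec h P m)).trans (CohCmpLib.pullbackComp_puSec h' h P.L _)

variable (E)

instance setoidPt (T : Scheme.{u}) : Setoid (Pt E T) := ⟨Pt.Rel, ⟨Pt.Rel.refl, Pt.Rel.symm, Pt.Rel.trans⟩⟩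

/-- Isomorphism classes of quotients. -/
abbrev Cls (T : Scheme.{u}) : Type (u + 1) := Quotient (setoidPt E T)

variable {E}

/-- The killed sections determine the class. -/
def Pt.kills (P : Pt E T) : Σ g : T ⟶ X, ∀ W : T.Opens, Set Γ(pb g E, W) := ⟨P.g, fun W => {m | P.s.app W m = 0}⟩

theorem Pt.kills_congr {P Q : Pt E T} (h : P.Rel Q) : P.kills = Q.kills := by
  obtain ⟨g, L, hL, s, hs⟩ := P
  obtain ⟨g', L', hL', s', hs'⟩ := Q
  obtain ⟨hg, e, he⟩ := h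
  dsimp only at hg
  subst hg
  have he' : s ≫ e.hom = s' := by simpa [Scheme.Modules.pullbackCongr] using he
  refine Sigma.ext rfl (heq_of_eq (funext fun W => Set.ext fun m => ?_))
  show s.app W m = 0 ↔ s'.app W m = 0
  rw [← he']
  refine ⟨fun h => ?_, fun h => ?_⟩
  · show e.hom.app W (s.app W m) = 0
    rw [h, map_zero]
  · have h' : e.inv.app W (e.hom.app W (s.app W m)) = 0 :=
      (congrArg (e.inv.app W) h).trans (map_zero _)
    rwa [show e.inv.app W (e.hom.app W (s.app W m)) = s.app W m from congr($(e.hom_inv_id).app W (s.app W m))] at h'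

theorem Pt.rel_of_kills {P Q : Pt E T} (h : P.kills = Q.kills) : P.Rel Q := by
  obtain ⟨g, L, hL, s, hs⟩ := P
  obtain ⟨g', L', hL', s', hs'⟩ := Q
  obtain ⟨hg, hK⟩ := Sigma.mk.inj h
  dsimp only at hg
  subst hg
  obtain ⟨e, he⟩ := exists_iso_of_kills s s' fun W m => Set.ext_iff.1 (congrFun (eq_of_heq hK) W) m
  exact ⟨rfl, e, by simpa [Scheme.Modules.pullbackCongr] using he⟩

instance small_cls (T : Scheme.{u}) : Small.{u} (Cls E T) :=
  small_of_injective (f := Quotient.lift Pt.kills fun _ _ h => Pt.kills_congr h)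
    fun a b => Quotient.inductionOn₂ a b fun _ _ h => Quotient.sound (Pt.rel_of_kills h)

/-- The class of a quotient, in the small model. -/
def Pt.mk' (P : Pt E T) : Shrink.{u} (Cls E T) := equivShrink _ (Quotient.mk _ P)

theorem Pt.mk'_eq_iff {P Q : Pt E T} : P.mk' = Q.mk' ↔ P.Rel Q :=
  (equivShrink _).injective.eq_iff.trans Quotient.eq

theorem exists_mk' (x : Shrink.{u} (Cls E T)) : ∃ P : Pt E T, P.mk' = x := by
  obtain ⟨P, hP⟩ := Quotient.exists_rep ((equivShrink _).symm x)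
  exact ⟨P, by rw [Pt.mk', hP, Equiv.apply_symm_apply]⟩

/-- Pullback of classes. -/
def clsMap (h : T' ⟶ T) (x : Shrink.{u} (Cls E T)) : Shrink.{u} (Cls E T') :=
  equivShrink _ (Quotient.map (Pt.map h) (fun _ _ hPQ => Pt.map_rel h hPQ) ((equivShrink _).symm x))

theorem clsMap_mk' (h : T' ⟶ T) (P : Pt E T) : clsMap h P.mk' = (P.map h).mk' := by
  rw [clsMap, Pt.mk', Equiv.symm_apply_apply]
  rfl

theorem clsMap_id (x : Shrink.{u} (Cls E T)) : clsMap (𝟙 T) x = x := by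
  obtain ⟨P, rfl⟩ := exists_mk' x
  rw [clsMap_mk', Pt.mk'_eq_iff]
  exact P.map_id_rel

theorem clsMap_comp (h' : T'' ⟶ T') (h : T' ⟶ T) (x : Shrink.{u} (Cls E T)) :
    clsMap h' (clsMap h x) = clsMap (h' ≫ h) x := by
  obtain ⟨P, rfl⟩ := exists_mk' x
  rw [clsMap_mk', clsMap_mk', clsMap_mk', Pt.mk'_eq_iff]
  exact P.map_comp_rel h' h

variable (E)

/-- The functor of invertible quotients. -/
def quotF : Scheme.{u}ᵒᵖ ⥤ Type u where
  obj T := Shrink.{u} (Cls E T.unop)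
  map h := TypeCat.ofHom (clsMap h.unop)
  map_id T := ConcreteCategory.hom_ext _ _ fun x => clsMap_id (T := T.unop) x
  map_comp h h' := ConcreteCategory.hom_ext _ _ fun x => (clsMap_comp h'.unop h.unop x).symm

variable {E}

theorem quotF_map (h : T' ⟶ T) (x : (quotF E).obj (op T)) : (quotF E).map h.op x = clsMap h x := rfl

theorem exists_congr_g (x : Shrink.{u} (Cls E T)) {P : Pt E T} (hP : P.mk' = x) {g : T ⟶ X} (hg : P.g = g) :
    ∃ (L : T.Modules) (hL : PicF.IsInvertible L) (t : pb g E ⟶ L) (ht : Epi t), (⟨g, L, hL, t, ht⟩ : Pt E T).mk' = x := by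
  subst hg
  exact ⟨P.L, P.inv, P.s, P.epi, hP⟩

/-- Quotients on an open cover with a common base map and equal restrictions glue. -/
theorem exists_glue_cls (g : T ⟶ X) {J : Type u} (V : J → T.Opens) (hV : ∀ x : T, ∃ j, x ∈ V j)
    (L : ∀ i, (V i).toScheme.Modules) (hL : ∀ i, PicF.IsInvertible (L i))
    (t : ∀ i, pb ((V i).ι ≫ g) E ⟶ L i) (ht : ∀ i, Epi (t i))
    (hc : ∀ i j (W : T.Opens) (hi : W ≤ V i) (hj : W ≤ V j),
      ((⟨(V i).ι ≫ g, L i, hL i, t i, ht i⟩ : Pt E _).map (T.homOfLE hi)).Rel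
        ((⟨(V j).ι ≫ g, L j, hL j, t j, ht j⟩ : Pt E _).map (T.homOfLE hj))) :
    ∃ Q : Pt E T, ∀ i, (Q.map (V i).ι).Rel ⟨(V i).ι ≫ g, L i, hL i, t i, ht i⟩ := by
  have hse : ∀ i, Epi ((Scheme.Modules.pullbackComp (V i).ι g).hom.app E ≫ t i) := fun i =>
    haveI := ht i; epi_comp _ _
  have compat : ∀ i j (W : T.Opens), W ≤ V i → W ≤ V j → ∀ m : Γ(pb g E, W),
      ((Scheme.Modules.pullbackComp (V i).ι g).hom.app E ≫ t i).app ((V i).ι ⁻¹ᵁ W) (puSec (V i).ι m) = 0 →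
      ((Scheme.Modules.pullbackComp (V j).ι g).hom.app E ≫ t j).app ((V j).ι ⁻¹ᵁ W) (puSec (V j).ι m) = 0 := by
    intro i j W hi hj m hm
    obtain ⟨hgg, e, he⟩ := (Pt.rel_map_iff _ _ _).1 (hc i j W hi hj)
    have hΨ := compQ_pullbackComp (T.homOfLE_ι hi) (T.homOfLE_ι hj) (t i) (t j) hgg he
    have h2 := congr($(hΨ).app (W.ι ⁻¹ᵁ W) (puSec W.ι m))
    have h2' := (compQ_app (E := pb g E) _ (T.homOfLE_ι hi) e.hom m).symm.trans (h2.trans
      (compQ_app (E := pb g E) _ (T.homOfLE_ι hj) (𝟙 _) m))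
    rw [hm, puSec_zero, map_zero, map_zero] at h2'
    have h3 : puSec (T.homOfLE hj) (((Scheme.Modules.pullbackComp (V j).ι g).hom.app E ≫ t j).app
        ((V j).ι ⁻¹ᵁ W) (puSec (V j).ι m)) = 0 :=
      (ConcreteCategory.bijective_of_isIso ((pb (T.homOfLE hj) (L j)).presheaf.map _)).1
        (h2'.symm.trans (map_zero _).symm)
    exact (puSec_eq_zero_iff (T.homOfLE hj) (L j) (by
      intro x hx
      exact ⟨⟨(V j).ι x, hx⟩, (V j).ι.isOpenEmbedding.injective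
        (congr($(T.homOfLE_ι hj).base ⟨(V j).ι x, hx⟩))⟩) _).1 h3
  obtain ⟨L₀, s₀, hL₀, hs₀, hglue⟩ := exists_glue_quot V hV L hL _ hse compat
  refine ⟨⟨g, L₀, hL₀, s₀, hs₀⟩, fun i => ?_⟩
  obtain ⟨e, he⟩ := hglue i
  refine ⟨rfl, e, ?_⟩
  show (Scheme.Modules.pullbackCongr rfl).inv.app E ≫ ((Scheme.Modules.pullbackComp (V i).ι g).inv.app E ≫
    (Scheme.Modules.pullback (V i).ι).map s₀) ≫ e.hom = t i
  rw [Category.assoc, he]
  simp [Scheme.Modules.pullbackCongr]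

/-- Quotients agreeing on an open cover are isomorphic. -/
theorem rel_of_cover {J : Type u} (V : J → T.Opens) (hV : ∀ x : T, ∃ j, x ∈ V j) {P Q : Pt E T}
    (h : ∀ i, (P.map (V i).ι).Rel (Q.map (V i).ι)) (hg : P.g = Q.g) : P.Rel Q := by
  obtain ⟨g, L', hL', s', hs'⟩ := P
  obtain ⟨g', L₀, hL₀, s₀, hs₀⟩ := Q
  dsimp only at hg
  subst hg
  refine Pt.rel_of_kills (Sigma.ext rfl (heq_of_eq (funext fun W => Set.ext fun m => ?_)))
  show s'.app W m = 0 ↔ s₀.app W m = 0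
  have key : ∀ (A B : T.Modules) (u : pb g E ⟶ A) (v : pb g E ⟶ B),
      (∀ i, ∃ e : pb (V i).ι A ≅ pb (V i).ι B,
        (Scheme.Modules.pullback (V i).ι).map u ≫ e.hom = (Scheme.Modules.pullback (V i).ι).map v) →
      u.app W m = 0 → v.app W m = 0 := by
    intro A B u v huv h
    refine TwistLib.mod_ext B fun x hx => ?_
    obtain ⟨i, hi⟩ := hV x
    obtain ⟨e, he⟩ := huv i
    have h1 : v.app (W ⊓ V i) (res _ (inf_le_left : W ⊓ V i ≤ W) m) = 0 := by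
      refine (puSec_eq_zero_iff (V i).ι B (by rw [Scheme.Opens.opensRange_ι]; exact inf_le_right) _).1 ?_
      rw [← KFlatLib.puSec_natural (V i).ι v, ← he,
        show ((Scheme.Modules.pullback (V i).ι).map u ≫ e.hom).app _ (puSec (V i).ι (res _ inf_le_left m)) =
          e.hom.app _ (((Scheme.Modules.pullback (V i).ι).map u).app _ (puSec (V i).ι (res _ inf_le_left m))) from rfl,
        KFlatLib.puSec_natural (V i).ι u,
        show u.app (W ⊓ V i) (res _ inf_le_left m) = 0 from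
          (QCohLib.app_map u (homOfLE (inf_le_left : W ⊓ V i ≤ W)) m).trans (by rw [h, map_zero]),
        puSec_zero, map_zero]
    rw [show v.app (W ⊓ V i) (res _ inf_le_left m) = res B inf_le_left (v.app W m) from
      QCohLib.app_map v (homOfLE (inf_le_left : W ⊓ V i ≤ W)) m] at h1
    have h2 := congrArg (B.presheaf.germ (W ⊓ V i) x ⟨hx, hi⟩) h1
    rw [AmpleLib.germ_res, map_zero] at h2
    rw [h2, map_zero]
  have hiso : ∀ i, ∃ e : pb (V i).ι L' ≅ pb (V i).ι L₀,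
      (Scheme.Modules.pullback (V i).ι).map s' ≫ e.hom = (Scheme.Modules.pullback (V i).ι).map s₀ := fun i => by
    obtain ⟨h1, e, he⟩ := h i
    refine ⟨e, ?_⟩
    simpa [Pt.map, Scheme.Modules.pullbackCongr] using he
  refine ⟨key _ _ s' s₀ hiso, key _ _ s₀ s' fun i => ?_⟩
  obtain ⟨e, he⟩ := hiso i
  exact ⟨e.symm, by rw [← he, Category.assoc, Iso.symm_hom, e.hom_inv_id, Category.comp_id]⟩

/-- Gluing. -/
theorem isSheaf_quotF : Presheaf.IsSheaf Scheme.zariskiTopology (quotF E) := by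
  rw [isSheaf_iff_isSheaf_of_type, Precoverage.isSheaf_toGrothendieck_iff_of_isStableUnderBaseChange_of_small.{u}]
  intro T (𝒰 : T.OpenCover)
  refine (Presieve.isSheafFor_arrows_iff _ _).2 fun a₀ ha₀ => ?_
  let a : ∀ i, Shrink.{u} (Cls E (𝒰.X i)) := a₀
  have ha : ∀ i j (Z : Scheme.{u}) (gi : Z ⟶ 𝒰.X i) (gj : Z ⟶ 𝒰.X j), gi ≫ 𝒰.f i = gj ≫ 𝒰.f j →
      clsMap gi (a i) = clsMap gj (a j) := fun i j Z gi gj h => ha₀ i j Z gi gj h
  have hrep : ∀ i, ∃ P : Pt E (𝒰.X i), P.mk' = a i := fun i => exists_mk' (a i)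
  choose P hP using hrep
  let V : 𝒰.I₀ → T.Opens := fun i => (𝒰.f i).opensRange
  have hV : ∀ x : T, ∃ i, x ∈ V i := fun x => by obtain ⟨i, y, hy⟩ := 𝒰.exists_eq x; exact ⟨i, y, hy⟩
  let l : ∀ i, (V i).toScheme ⟶ 𝒰.X i := fun i =>
    IsOpenImmersion.lift (𝒰.f i) (V i).ι (Eq.subset (Scheme.Opens.range_ι _))
  have hl : ∀ i, l i ≫ 𝒰.f i = (V i).ι := fun i => IsOpenImmersion.lift_fac _ _ _
  let g : T ⟶ X := 𝒰.glueMorphisms (fun i => (P i).g) fun i j => by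
    have h := ha i j _ (pullback.fst _ _) (pullback.snd _ _) pullback.condition
    rw [← hP i, ← hP j, clsMap_mk', clsMap_mk', Pt.mk'_eq_iff] at h
    exact h.1
  have hg : ∀ i, 𝒰.f i ≫ g = (P i).g := fun i => Scheme.Cover.ι_glueMorphisms 𝒰 _ _ i
  have hb : ∀ i, ∃ (L : (V i).toScheme.Modules) (hL : PicF.IsInvertible L) (t : pb ((V i).ι ≫ g) E ⟶ L) (ht : Epi t),
      (⟨(V i).ι ≫ g, L, hL, t, ht⟩ : Pt E (V i).toScheme).mk' = clsMap (l i) (a i) := fun i =>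
    exists_congr_g _ (P := (P i).map (l i)) (by rw [← hP i, clsMap_mk']) (by
      show l i ≫ (P i).g = _
      rw [← hg i, ← Category.assoc, hl])
  choose L hL t ht hb using hb
  have hc : ∀ i j (W : T.Opens) (hi : W ≤ V i) (hj : W ≤ V j),
      ((⟨(V i).ι ≫ g, L i, hL i, t i, ht i⟩ : Pt E _).map (T.homOfLE hi)).Rel
        ((⟨(V j).ι ≫ g, L j, hL j, t j, ht j⟩ : Pt E _).map (T.homOfLE hj)) := fun i j W hi hj => by
    rw [← Pt.mk'_eq_iff, ← clsMap_mk', ← clsMap_mk', hb, hb, clsMap_comp, clsMap_comp]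
    exact ha i j _ _ _ (by rw [Category.assoc, Category.assoc, hl, hl, T.homOfLE_ι, T.homOfLE_ι])
  obtain ⟨Q, hQ'⟩ := exists_glue_cls g V hV L hL t ht hc
  have hQ : ∀ i, clsMap (V i).ι Q.mk' = clsMap (l i) (a i) := fun i => by
    rw [clsMap_mk', ← hb i, Pt.mk'_eq_iff]
    exact hQ' i
  let l' : ∀ i, 𝒰.X i ⟶ (V i).toScheme := fun i =>
    IsOpenImmersion.lift (V i).ι (𝒰.f i) (Eq.superset (Scheme.Opens.range_ι _))
  have hl' : ∀ i, l' i ≫ (V i).ι = 𝒰.f i := fun i => IsOpenImmersion.lift_fac _ _ _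
  refine ⟨Q.mk', fun i => ?_, fun y hy => ?_⟩
  · have hll : l' i ≫ l i = 𝟙 _ := by rw [← cancel_mono (𝒰.f i), Category.assoc, hl, hl', Category.id_comp]
    show clsMap (𝒰.f i) Q.mk' = a i
    rw [← hl' i, ← clsMap_comp, hQ, clsMap_comp, hll, clsMap_id]
  · obtain ⟨R, rfl⟩ := exists_mk' y
    have hy' : ∀ i, clsMap (𝒰.f i) R.mk' = a i := hy
    have hres : ∀ i, (R.map (V i).ι).Rel (Q.map (V i).ι) := fun i => by
      rw [← Pt.mk'_eq_iff, ← clsMap_mk', ← clsMap_mk', hQ, ← hy' i, clsMap_comp, hl]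
    refine Pt.mk'_eq_iff.2 (rel_of_cover V hV hres (𝒰.hom_ext _ _ fun i => ?_))
    obtain ⟨h1, -⟩ := hres i
    show 𝒰.f i ≫ R.g = 𝒰.f i ≫ Q.g
    rw [← hl' i, Category.assoc, Category.assoc]
    exact congrArg (l' i ≫ ·) h1

end ProjBunLib

end
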