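import Mathlib
import Groth.Agent.ProjBunLib.Functor
import Groth.Agent.CycPBLib.UnivCharts

/-!
# The standard chart as a space of normalised coordinates
-/

set_option autoImplicit false
set_option linter.style.haveILetI false
set_option linter.unusedSectionVars false

universe u

open AlgebraicGeometry CategoryTheory CategoryTheory.Limits Opposite TopologicalSpace
open CycPBLib (Pol chartVals)

noncomputable section

namespace ProjBunLib

variable {X T : Scheme.{u}} {U : X.Opens} (hU : IsAffineOpen U) (n : ℕ) (j : Fin (n + 1))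

/-- The chart. -/
abbrev chS (U : X.Opens) (n : ℕ) : Scheme.{u} := Spec (CommRingCat.of (Pol Γ(X, U) n))

/-- The structure morphism of the chart. -/
def chP : chS U n ⟶ X :=
  Spec.map (CommRingCat.ofHom (MvPolynomial.C : Γ(X, U) →+* Pol Γ(X, U) n)) ≫ hU.fromSpec

theorem chP_preimage : chP hU n ⁻¹ᵁ U = ⊤ := by
  show Spec.map _ ⁻¹ᵁ hU.fromSpec ⁻¹ᵁ U = ⊤
  rw [hU.fromSpec_preimage_self]
  rfl

theorem exists_chLift (g : T ⟶ X) (hg : g ⁻¹ᵁ U = ⊤) (v : Fin (n + 1) → Γ(T, ⊤)) (hv : v j = 1) :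
    ∃ a : T ⟶ chS U n, a ≫ chP hU n = g ∧ ∀ k, a.appTop (chartVals Γ(X, U) n j k) = v k := by
  let l : T ⟶ U.toScheme := IsOpenImmersion.lift U.ι g (by
    rw [Scheme.Opens.range_ι]
    rintro _ ⟨x, rfl⟩
    exact hg.ge (Opens.mem_top x))
  let r : Γ(X, U) →+* Γ(T, ⊤) := (U.topIso.inv ≫ l.appTop).hom
  let ψ : CommRingCat.of (Pol Γ(X, U) n) ⟶ Γ(T, ⊤) :=
    CommRingCat.ofHom (MvPolynomial.eval₂Hom r fun m => v (j.succAbove m.down))
  refine ⟨T.toSpecΓ ≫ Spec.map ψ, ?_, fun k => ?_⟩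
  · have h1 : CommRingCat.ofHom (MvPolynomial.C : Γ(X, U) →+* Pol Γ(X, U) n) ≫ ψ = U.topIso.inv ≫ l.appTop :=
      CommRingCat.hom_ext (RingHom.ext fun x => MvPolynomial.eval₂Hom_C _ _ x)
    show (T.toSpecΓ ≫ Spec.map ψ) ≫ Spec.map _ ≫ hU.fromSpec = g
    rw [Category.assoc, ← Spec.map_comp_assoc, h1, Spec.map_comp, Category.assoc, ← Category.assoc T.toSpecΓ,
      ← Scheme.toSpecΓ_naturality, Category.assoc]
    show l ≫ U.toSpecΓ ≫ hU.fromSpec = g
    rw [hU.toSpecΓ_fromSpec]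
    exact IsOpenImmersion.lift_fac _ _ _
  · rcases Fin.eq_self_or_eq_succAbove j k with rfl | ⟨m, rfl⟩
    · rw [CycPBLib.chartVals_self, map_one, hv]
    · simp only [chartVals, Fin.insertNth_apply_succAbove]
      show ((Spec.map ψ).appTop ≫ T.toSpecΓ.appTop) ((Scheme.ΓSpecIso (CommRingCat.of (Pol Γ(X, U) n))).inv _) = _
      rw [← CommRingCat.comp_apply, ← Category.assoc, ← Scheme.ΓSpecIso_inv_naturality, Category.assoc,
        Scheme.toSpecΓ_appTop, Iso.inv_hom_id, Category.comp_id]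
      exact MvPolynomial.eval₂Hom_X' _ _ _

theorem chLift_ext (a a' : T ⟶ chS U n) (h : a ≫ chP hU n = a' ≫ chP hU n)
    (hv : ∀ k, a.appTop (chartVals Γ(X, U) n j k) = a'.appTop (chartVals Γ(X, U) n j k)) : a = a' := by
  refine ext_of_isAffine (CommRingCat.hom_ext ?_)
  let e := Scheme.ΓSpecIso (CommRingCat.of (Pol Γ(X, U) n))
  have hC : a ≫ Spec.map (CommRingCat.ofHom (MvPolynomial.C : Γ(X, U) →+* Pol Γ(X, U) n)) =
      a' ≫ Spec.map (CommRingCat.ofHom (MvPolynomial.C : Γ(X, U) →+* Pol Γ(X, U) n)) := by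
    rw [← cancel_mono hU.fromSpec, Category.assoc, Category.assoc]
    exact h
  have key : e.inv ≫ a.appTop = e.inv ≫ a'.appTop := by
    refine CommRingCat.hom_ext (MvPolynomial.ringHom_ext (fun r => ?_) fun m => ?_)
    · have h2 := congr((Scheme.Hom.appTop $hC) ((Scheme.ΓSpecIso (Γ(X, U))).inv r))
      rw [Scheme.Hom.comp_appTop, Scheme.Hom.comp_appTop, CommRingCat.comp_apply, CommRingCat.comp_apply,
        ← CommRingCat.comp_apply _ (Spec.map _).appTop, ← Scheme.ΓSpecIso_inv_naturality] at h2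
      exact h2
    · have h2 := hv (j.succAbove m.down)
      simp only [chartVals, Fin.insertNth_apply_succAbove] at h2
      exact h2
  exact congrArg CommRingCat.Hom.hom ((cancel_epi e.inv).1 key)

end ProjBunLib

end
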