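import Mathlib
import Groth.Agent.ProjBunLib.Lift

/-!
# The charts of the functor of invertible quotients
-/

set_option autoImplicit false
set_option linter.style.haveILetI false
set_option linter.unusedSectionVars false

universe u

open AlgebraicGeometry CategoryTheory CategoryTheory.Limits Opposite TopologicalSpace
open AmpleLib (res GenOn GenAt)
open KFlatLib (pb puSec)
open CycPBLib (bas eSec Cond chartVals genLocus')

noncomputable section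

namespace ProjBunLib

variable {X T T' : Scheme.{u}} {E : X.Modules} {N : ℕ} {U : X.Opens}
  (φ : E.restrict U.ι ≅ FlatMod.freeMod (↑U) N)

theorem epi_of_bas_one {g : T ⟶ X} (hg : g ⁻¹ᵁ U = ⊤) (s : pb g E ⟶ Coh.structureModule T) {j : Fin N}
    (h : s.app (g ⁻¹ᵁ U) (puSec g (bas φ j)) = (1 : Γ(T, g ⁻¹ᵁ U))) : Epi s := by
  refine ⟨fun {Z} a b hab => ?_⟩
  refine Scheme.Modules.hom_ext _ _ fun W => ConcreteCategory.hom_ext _ _ fun (r : Γ(T, W)) => ?_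
  have h1 : ∀ c : Coh.structureModule T ⟶ Z, c.app W r =
      r • res Z (le_top.trans hg.ge) ((s ≫ c).app (g ⁻¹ᵁ U) (puSec g (bas φ j))) := fun c => by
    rw [show (s ≫ c).app (g ⁻¹ᵁ U) (puSec g (bas φ j)) =
      c.app (g ⁻¹ᵁ U) (s.app (g ⁻¹ᵁ U) (puSec g (bas φ j))) from rfl, h]
    refine Eq.trans ?_ (congrArg (r • ·) (QCohLib.app_map c (homOfLE (le_top.trans hg.ge)) (1 : Γ(T, g ⁻¹ᵁ U))))
    refine Eq.trans ?_ (QCohLib.app_smul c W r _)
    refine congrArg _ ?_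
    refine ((congrArg (r * ·) (map_one (T.presheaf.map (homOfLE (show W ≤ g ⁻¹ᵁ U from le_top.trans hg.ge)).op).hom)).trans (mul_one r)).symm
  rw [h1 a, h1 b, hab]

/-- The quotient with prescribed values on the basis. -/
def ptOf (g : T ⟶ X) (hg : g ⁻¹ᵁ U = ⊤) (v : Fin N → Γ(T, ⊤)) (j : Fin N) (hv : v j = 1) : Pt E T where
  g := g
  L := Coh.structureModule T
  inv := (CohCmpLib.invertible_iff_rank_one _).2 (CohCmpLib.rank_one_structureModule T)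
  s := (CycPBLib.exists_hom_bas φ g (L := Coh.structureModule T) hg
    fun k => T.presheaf.map (homOfLE (le_top : g ⁻¹ᵁ U ≤ ⊤)).op (v k)).choose
  epi := epi_of_bas_one φ hg _ (j := j) (((CycPBLib.exists_hom_bas φ g (L := Coh.structureModule T) hg
    fun k => T.presheaf.map (homOfLE (le_top : g ⁻¹ᵁ U ≤ ⊤)).op (v k)).choose_spec j).trans (by rw [hv]; exact map_one (T.presheaf.map _).hom))

theorem ptOf_val (g : T ⟶ X) (hg : g ⁻¹ᵁ U = ⊤) (v : Fin N → Γ(T, ⊤)) (j : Fin N) (hv : v j = 1) (k : Fin N) :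
    (ptOf φ g hg v j hv).s.app (g ⁻¹ᵁ U) (puSec g (bas φ k)) =
      T.presheaf.map (homOfLE (le_top : g ⁻¹ᵁ U ≤ ⊤)).op (v k) :=
  (CycPBLib.exists_hom_bas φ g (L := Coh.structureModule T) hg _).choose_spec k

theorem rel_ptOf_iff (P : Pt E T) (f : T' ⟶ T) (g : T' ⟶ X) (hg : g ⁻¹ᵁ U = ⊤) (v : Fin N → Γ(T', ⊤)) (j : Fin N)
    (hv : v j = 1) : (P.map f).Rel (ptOf φ g hg v j hv) ↔ f ≫ P.g = g ∧ Cond (eSec φ P.s) f v := by
  rw [Pt.rel_map_iff]
  constructor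
  · rintro ⟨hfg, e, he⟩
    refine ⟨hfg, e, fun k => ?_⟩
    have h1 := (compQ_app P.s hfg e.hom (bas φ k)).symm.trans
      ((congr($(he).app (g ⁻¹ᵁ U) (puSec g (bas φ k)))).trans (ptOf_val φ g hg v j hv k))
    change f ≫ P.g = g at hfg
    subst hfg
    exact (congr($((Coh.structureModule T').presheaf.map_id _) _)).symm.trans h1
  · rintro ⟨hfg, i, hi⟩
    subst hfg
    refine ⟨rfl, i, CycPBLib.hom_ext_bas φ _ hg _ _ fun k => ?_⟩
    refine ((compQ_app P.s (rfl : f ≫ P.g = f ≫ P.g) i.hom (bas φ k)).trans ?_).trans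
      (ptOf_val φ (f ≫ P.g) hg v j hv k).symm
    exact (congr($((Coh.structureModule T').presheaf.map_id _) _)).trans (hi k)

theorem cond_of_val {g : T ⟶ X} (hg : g ⁻¹ᵁ U = ⊤) (s : pb g E ⟶ Coh.structureModule T) (v : Fin N → Γ(T, ⊤))
    (j : Fin N) (hv : v j = 1)
    (hs : ∀ k, s.app (g ⁻¹ᵁ U) (puSec g (bas φ k)) = T.presheaf.map (homOfLE (le_top : g ⁻¹ᵁ U ≤ ⊤)).op (v k))
    (f : T' ⟶ T) : Cond (eSec φ s) f (fun k => f.appTop (v k)) := by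
  refine CycPBLib.cond_of (j := j) (D := g ⁻¹ᵁ U) le_rfl ?_ (t := fun k => T.presheaf.map (homOfLE le_top).op (v k))
    (fun k => ?_) (fun x _ => hg.ge (Opens.mem_top _)) fun k => ?_
  · rw [AmpleLib.res_refl, eSec, hs, hv, map_one]
    exact AmpleLib.one_genOn _
  · rw [AmpleLib.res_refl, AmpleLib.res_refl, eSec, eSec, hs, hs, hv, map_one]
    exact (mul_one (T.presheaf.map (homOfLE (le_top : g ⁻¹ᵁ U ≤ ⊤)).op (v k) : Γ(T, g ⁻¹ᵁ U))).symm
  · rw [Scheme.Hom.appLE, CommRingCat.comp_apply, ← CommRingCat.comp_apply _ (f.app _), f.naturality,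
      CommRingCat.comp_apply, ← CommRingCat.comp_apply, ← T'.presheaf.map_comp]
    exact congr($(T'.presheaf.map_id _) (f.appTop (v k)))

theorem cond_ptOf (g : T ⟶ X) (hg : g ⁻¹ᵁ U = ⊤) (v : Fin N → Γ(T, ⊤)) (j : Fin N) (hv : v j = 1) (f : T' ⟶ T) :
    Cond (eSec φ (ptOf φ g hg v j hv).s) f (fun k => f.appTop (v k)) :=
  cond_of_val φ hg _ v j hv (ptOf_val φ g hg v j hv) f

theorem ptOf_map (g : T ⟶ X) (hg : g ⁻¹ᵁ U = ⊤) (v : Fin N → Γ(T, ⊤)) (j : Fin N) (hv : v j = 1) (f : T' ⟶ T) :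
    ((ptOf φ g hg v j hv).map f).Rel (ptOf φ (f ≫ g) (by show f ⁻¹ᵁ (g ⁻¹ᵁ U) = ⊤; rw [hg]; rfl)
      (fun k => f.appTop (v k)) j (by show f.appTop (v j) = 1; rw [hv]; exact map_one _)) :=
  (rel_ptOf_iff φ _ f _ _ _ j _).2 ⟨rfl, cond_ptOf φ g hg v j hv f⟩

theorem ptOf_rel_inj {g g' : T ⟶ X} {hg : g ⁻¹ᵁ U = ⊤} {hg' : g' ⁻¹ᵁ U = ⊤} {v v' : Fin N → Γ(T, ⊤)} {j : Fin N}
    {hv : v j = 1} {hv' : v' j = 1} (h : (ptOf φ g hg v j hv).Rel (ptOf φ g' hg' v' j hv')) : g = g' ∧ v = v' := by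
  obtain ⟨h0, e, he⟩ := h
  change g = g' at h0
  subst h0
  refine ⟨rfl, funext fun k => ?_⟩
  have h1 : ∀ l, e.hom.app (g ⁻¹ᵁ U) (T.presheaf.map (homOfLE (le_top : g ⁻¹ᵁ U ≤ ⊤)).op (v l)) =
      T.presheaf.map (homOfLE (le_top : g ⁻¹ᵁ U ≤ ⊤)).op (v' l) := fun l => by
    rw [← ptOf_val φ g hg' v' j hv' l, ← he, ← ptOf_val φ g hg v j hv l]
    simp [Scheme.Modules.pullbackCongr]
    rfl
  have h2 := h1 j
  rw [hv, hv', map_one] at h2
  have h3 := h1 k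
  rw [show (T.presheaf.map (homOfLE (le_top : g ⁻¹ᵁ U ≤ ⊤)).op (v k) : Γ(Coh.structureModule T, g ⁻¹ᵁ U)) =
    T.presheaf.map (homOfLE (le_top : g ⁻¹ᵁ U ≤ ⊤)).op (v k) • (1 : Γ(T, g ⁻¹ᵁ U)) from (mul_one _).symm] at h3
  have h4 := (QCohLib.app_smul e.hom (g ⁻¹ᵁ U) _ _).symm.trans h3
  rw [h2] at h4
  have h5 := congrArg (T.presheaf.map (homOfLE hg.ge).op) ((mul_one _).symm.trans h4)
  rwa [← CommRingCat.comp_apply, ← CommRingCat.comp_apply, ← T.presheaf.map_comp,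
    show (homOfLE (le_top : g ⁻¹ᵁ U ≤ ⊤)).op ≫ (homOfLE hg.ge).op = 𝟙 _ from Subsingleton.elim _ _,
    T.presheaf.map_id, CommRingCat.id_apply, CommRingCat.id_apply] at h5

variable {n : ℕ} (hU : IsAffineOpen U) (ψ : E.restrict U.ι ≅ FlatMod.freeMod (↑U) (n + 1)) (j : Fin (n + 1))

/-- The quotient on a chart. -/
def chPt : Pt E (chS U n) := ptOf ψ (chP hU n) (chP_preimage hU n) (chartVals Γ(X, U) n j) j (CycPBLib.chartVals_self _ n j)

/-- The chart as a morphism of presheaves. -/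
def chMap : yoneda.obj (chS U n) ⟶ quotF E := yonedaEquiv.symm (show (quotF E).obj (op (chS U n)) from (chPt hU ψ j).mk')

theorem chMap_app {Z : Scheme.{u}} (a : Z ⟶ chS U n) : (chMap hU ψ j).app (op Z) a = ((chPt hU ψ j).map a).mk' :=
  (yonedaEquiv_symm_app_apply (F := quotF E) _ (op Z) a).trans (clsMap_mk' a _)

/-- Points of the chart. -/
theorem exists_ch_of_cond {Z : Scheme.{u}} (P : Pt E T) (f : Z ⟶ T) (v : Fin (n + 1) → Γ(Z, ⊤)) (hv : v j = 1)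
    (hg : (f ≫ P.g) ⁻¹ᵁ U = ⊤) (h : Cond (eSec ψ P.s) f v) :
    ∃ a : Z ⟶ chS U n, ((chPt hU ψ j).map a).Rel (P.map f) := by
  obtain ⟨a, ha, hav⟩ := exists_chLift hU n j (f ≫ P.g) hg v hv
  refine ⟨a, (ptOf_map ψ _ _ _ j _ a).trans (Pt.Rel.symm ?_)⟩
  refine (rel_ptOf_iff ψ P f _ _ _ j _).2 ⟨ha.symm, ?_⟩
  simp only [hav]
  exact h

theorem chPt_inj {Z : Scheme.{u}} {a a' : Z ⟶ chS U n}
    (h : ((chPt hU ψ j).map a).Rel ((chPt hU ψ j).map a')) : a = a' := by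
  obtain ⟨h1, h2⟩ := ptOf_rel_inj ψ (((ptOf_map ψ _ _ _ j _ a).symm.trans h).trans (ptOf_map ψ _ _ _ j _ a'))
  exact chLift_ext hU n j a a' h1 fun k => congrFun h2 k

/-- The locus of a chart. -/
theorem exists_chPt_on (P : Pt E T) : ∃ a : (genLocus' (eSec ψ P.s j) P.inv).toScheme ⟶ chS U n,
    ((chPt hU ψ j).map a).Rel (P.map (genLocus' (eSec ψ P.s j) P.inv).ι) := by
  classical
  let D := genLocus' (eSec ψ P.s j) P.inv
  have hle : D ≤ P.g ⁻¹ᵁ U := CycPBLib.genLocus'_le _ _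
  have hgen : GenOn P.L (res P.L hle (eSec ψ P.s j)) := CycPBLib.genLocus'_genOn _ _
  choose t ht using fun k => (hgen D le_rfl).2 (res P.L hle (eSec ψ P.s k))
  have htk : ∀ k, res P.L hle (eSec ψ P.s k) = t k • res P.L hle (eSec ψ P.s j) := fun k => by
    rw [← ht k]
    exact congrArg _ (AmpleLib.res_refl _ _)
  have hT : (⊤ : D.toScheme.Opens) ≤ D.ι ⁻¹ᵁ D := fun x _ => x.2
  refine exists_ch_of_cond hU ψ j P D.ι (fun k => D.ι.appLE D ⊤ hT (t k)) ?_ ?_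
    (CycPBLib.cond_of hle hgen htk hT fun k => rfl)
  · have h1 : t j = 1 := (hgen D le_rfl).1 ((ht j).trans (by
      show _ = (1 : Γ(T, D)) • _
      rw [one_smul, AmpleLib.res_refl]))
    rw [h1]
    exact map_one (D.ι.appLE D ⊤ hT).hom
  · exact eq_top_iff.2 fun x _ => hle x.2

theorem chMap_relative : IsOpenImmersion.presheaf (chMap hU ψ j) := by
  refine MorphismProperty.relative.of_exists fun T g => ?_
  obtain ⟨P, hP⟩ := exists_mk' (show Shrink.{u} (Cls E T) from yonedaEquiv g)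
  obtain ⟨a, ha⟩ := exists_chPt_on hU ψ j P
  let V := genLocus' (eSec ψ P.s j) P.inv
  have hg : ∀ (Z : Scheme.{u}) (h : Z ⟶ T), g.app (op Z) h = (P.map h).mk' := fun Z h => by
    rw [← clsMap_mk', hP]
    exact (map_yonedaEquiv g h).symm
  refine ⟨V.toScheme, yoneda.map a, V.ι, ?_, inferInstanceAs (IsOpenImmersion V.ι)⟩
  refine IsPullback.of_forall_isPullback_app fun Z => ?_
  rw [Types.isPullback_iff]
  refine ⟨?_, ?_, ?_⟩
  · ext (h : Z.unop ⟶ V.toScheme)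
    show (chMap hU ψ j).app Z (h ≫ a) = g.app Z (h ≫ V.ι)
    refine (chMap_app hU ψ j (h ≫ a)).trans (Eq.trans ?_ (hg Z.unop (h ≫ V.ι)).symm)
    rw [← clsMap_mk', ← clsMap_mk', ← clsMap_comp, ← clsMap_comp, clsMap_mk' a, clsMap_mk' V.ι, Pt.mk'_eq_iff.2 ha]
  · rintro x₁ x₂ ⟨-, h2⟩
    exact (cancel_mono V.ι).1 (show x₁ ≫ V.ι = x₂ ≫ V.ι from h2)
  · intro (x₂ : Z.unop ⟶ chS U n) (x₃ : Z.unop ⟶ T) hx
    have hrel : ((chPt hU ψ j).map x₂).Rel (P.map x₃) :=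
      Pt.mk'_eq_iff.1 ((chMap_app hU ψ j x₂).symm.trans (hx.trans (hg Z.unop x₃)))
    obtain ⟨hbase, hc⟩ := (rel_ptOf_iff ψ P x₃ _ _ _ j _).1 (hrel.symm.trans (ptOf_map ψ _ _ _ j _ x₂))
    have hr : Set.range x₃ ⊆ Set.range V.ι := by
      rw [Scheme.Opens.range_ι]
      rintro _ ⟨z, rfl⟩
      refine CycPBLib.le_genLocus'_of_cond P.inv hc
        (show x₂.appTop (chartVals Γ(X, U) n j j) = 1 by rw [CycPBLib.chartVals_self]; exact map_one _) ?_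
      show z ∈ (x₃ ≫ P.g) ⁻¹ᵁ U
      rw [hbase]
      exact (chP_preimage hU n).ge (Opens.mem_top (x₂ z))
    let l : Z.unop ⟶ V.toScheme := IsOpenImmersion.lift V.ι x₃ hr
    have hl : l ≫ V.ι = x₃ := IsOpenImmersion.lift_fac _ _ _
    refine ⟨l, ?_, hl⟩
    show l ≫ a = x₂
    refine chPt_inj hU ψ j ?_
    rw [← Pt.mk'_eq_iff, ← clsMap_mk', ← clsMap_comp, clsMap_mk' a, Pt.mk'_eq_iff.2 ha, ← clsMap_mk', clsMap_comp,
      hl, clsMap_mk', Pt.mk'_eq_iff]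
    exact hrel.symm

end ProjBunLib

end
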