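import Mathlib
import Groth.Prelude.Def_KRR
import Groth.Agent.ProjBunLib.Chart
import Groth.Agent.FinLFAnnLib.Main
import Groth.Agent.OmegaAffLib.Rank
import Groth.Agent.FittLib.Generated

/-!
# Existence of the projective bundle of a locally free module
-/

set_option autoImplicit false
set_option linter.style.haveILetI false
set_option linter.unusedSectionVars false

universe u

open AlgebraicGeometry CategoryTheory CategoryTheory.Limits Opposite TopologicalSpace
open KFlatLib (pb puSec)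
open CycPBLib (eSec genLocus')

noncomputable section

namespace ProjBunLib

variable {X : Scheme.{u}} {E : X.Modules}

theorem exists_affine_triv {N : ℕ} (hE : FlatMod.IsFinLocFreeOfRank N E) (x : X) :
    ∃ (U : X.Opens) (_ : IsAffineOpen U), x ∈ U ∧ Nonempty (E.restrict U.ι ≅ FlatMod.freeMod (↑U) N) := by
  haveI : Coh.IsQCoh E := FinLFAnn.isQCoh_of_isFinLocFree fun y => by
    obtain ⟨U, hyU, hU⟩ := hE y
    exact ⟨U, N, hyU, hU⟩
  obtain ⟨U₀, hx₀, ⟨φ₀⟩⟩ := hE x
  obtain ⟨U, hU, hx, hle⟩ := exists_isAffineOpen_mem_and_subset (X := X) (x := x) (U := U₀) hx₀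
  obtain ⟨b⟩ := FittLib.nonempty_basis_of_iso E φ₀ (V := U) hle
  exact ⟨U, hU, hx, OmegaAffLib.nonempty_restrict_iso_freeMod hU E b⟩

/-- The functor of invertible quotients of a locally free module is representable. -/
theorem nonempty_representableBy {n : ℕ} (hE : FlatMod.IsFinLocFreeOfRank (n + 1) E) :
    ∃ P : Scheme.{u}, Nonempty ((quotF E).RepresentableBy P) := by
  classical
  choose U hU hx φ using exists_affine_triv hE
  let ι : Type u := X × Fin (n + 1)
  let Yc : ι → Scheme.{u} := fun p => chS (U p.1) n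
  let F : Sheaf Scheme.zariskiTopology.{u} (Type u) := ⟨quotF E, isSheaf_quotF⟩
  let f : ∀ p : ι, yoneda.obj (Yc p) ⟶ F.1 := fun p => chMap (hU p.1) (φ p.1).some p.2
  have hf : ∀ p, IsOpenImmersion.presheaf (f p) := fun p => chMap_relative _ _ _
  haveI : Presheaf.IsLocallySurjective Scheme.zariskiTopology (Sigma.desc f) := ⟨fun {T} e => by
    obtain ⟨P, hP⟩ := exists_mk' (show Shrink.{u} (Cls E T) from e)
    have hk : ∀ x : T, ∃ k, x ∈ genLocus' (eSec (φ (P.g x)).some P.s k) P.inv := fun x => by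
      haveI := P.epi
      obtain ⟨k, hk⟩ := CycPBLib.exists_genAt_eSec (φ (P.g x)).some (q := P.s) P.inv (z := x) (hx _)
      exact ⟨k, hx (P.g x), hk⟩
    choose k hk using hk
    let V : T → T.Opens := fun x => genLocus' (eSec (φ (P.g x)).some P.s (k x)) P.inv
    let 𝒰 : T.OpenCover := T.openCoverOfIsOpenCover V
      (top_le_iff.1 fun x _ => TopologicalSpace.Opens.mem_iSup.2 ⟨x, hk x⟩)
    refine GrothendieckTopology.superset_covering _ ?_ 𝒰.mem_grothendieckTopology
    rw [Sieve.generate_le_iff]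
    rintro _ _ ⟨x⟩
    obtain ⟨a, ha⟩ := exists_chPt_on (hU (P.g x)) (φ (P.g x)).some (k x) P
    let p : ι := (P.g x, k x)
    refine ⟨(Sigma.ι (fun p => yoneda.obj (Yc p)) p).app _ a, ?_⟩
    show ((Sigma.ι _ p) ≫ Sigma.desc f).app _ a = _
    rw [Sigma.ι_desc]
    refine (chMap_app _ _ _ a).trans ((Pt.mk'_eq_iff.2 ha).trans ?_)
    rw [← clsMap_mk', hP]
    rfl⟩
  exact ⟨_, ⟨Scheme.LocalRepresentability.representableBy (F := F) hf⟩⟩

/-- The projective bundle of a locally free module of positive rank exists. -/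
theorem exists_isProjBundle {n : ℕ} (hE : FlatMod.IsFinLocFreeOfRank (n + 1) E) :
    ∃ (P : Scheme.{u}) (π : P ⟶ X) (O1 : P.Modules) (q : pb π E ⟶ O1), KRR.IsProjBundle π E O1 q := by
  obtain ⟨P, ⟨R⟩⟩ := nonempty_representableBy hE
  obtain ⟨Q₀, hQ₀⟩ := exists_mk' (show Shrink.{u} (Cls E P) from R.homEquiv (𝟙 P))
  have hR : ∀ {T : Scheme.{u}} (h : T ⟶ P), (R.homEquiv h : Shrink.{u} (Cls E T)) = (Q₀.map h).mk' := fun {T} h => by
    have h1 := R.homEquiv_comp h (𝟙 P)
    rw [Category.comp_id] at h1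
    refine h1.trans ?_
    show clsMap h (R.homEquiv (𝟙 P)) = _
    rw [← clsMap_mk', hQ₀]
  refine ⟨P, Q₀.g, Q₀.L, Q₀.s, (CohCmpLib.invertible_iff_rank_one _).1 Q₀.inv, Q₀.epi, fun T g L hL s hs => ?_⟩
  let Q : Pt E T := ⟨g, L, (CohCmpLib.invertible_iff_rank_one _).2 hL, s, hs⟩
  have hiff : ∀ h : T ⟶ P, (∃ (hg : h ≫ Q₀.g = g) (e : pb h Q₀.L ≅ L),
      (Scheme.Modules.pullbackCongr hg).inv.app E ≫ (Scheme.Modules.pullbackComp h Q₀.g).inv.app E ≫
        (Scheme.Modules.pullback h).map Q₀.s ≫ e.hom = s) ↔ R.homEquiv h = Q.mk' := fun h => by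
    refine Iff.trans ?_ (Pt.mk'_eq_iff.symm.trans (Eq.congr_left (hR h).symm))
    exact (Pt.rel_map_iff h Q₀ Q).symm
  obtain ⟨h, hh⟩ := R.homEquiv.surjective Q.mk'
  exact ⟨h, (hiff h).2 hh, fun h' hh' => R.homEquiv.injective (((hiff h').1 hh').trans hh.symm)⟩

end ProjBunLib

end
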