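import Mathlib
import Groth.Prelude.Def_KRR
import Groth.Prelude.Def_LCI2
import Groth.Agent.ProjBunLib.Exists
import Groth.Agent.AmpleThLib.ToPn

/-!
# The projective bundle is proper
-/

set_option autoImplicit false
set_option linter.style.haveILetI false
set_option linter.unusedSectionVars false

universe u

open AlgebraicGeometry CategoryTheory CategoryTheory.Limits Opposite TopologicalSpace
open AmpleLib (res GenOn GenAt)
open KFlatLib (pb puSec)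
open CycPBLib (eSec genLocus' chartVals Cond)
open ChowLib (PZ Dplus)
open AmpleThLib (cj)
open TwistLib (genSet)

noncomputable section

namespace ProjBunLib

variable {X P : Scheme.{u}} {π : P ⟶ X} {O1 : P.Modules} {E : X.Modules} {q : pb π E ⟶ O1} {n : ℕ}

theorem isInvertible_O1 (hP : KRR.IsProjBundle π E O1 q) : PicF.IsInvertible O1 :=
  (CohCmpLib.invertible_iff_rank_one O1).2 hP.invertible

theorem appLE_congr' {S T : Scheme.{u}} {f g : S ⟶ T} (h : f = g) {W : T.Opens} {V : S.Opens} (a : V ≤ f ⁻¹ᵁ W)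
    (b : V ≤ g ⁻¹ᵁ W) : f.appLE W V a = g.appLE W V b := by subst h; rfl

theorem cond_pull_aux {T Q : Scheme.{u}} (f : T ⟶ Q) (ι : Q ⟶ P) {c : T ⟶ P} (hf : f ≫ ι = c)
    (i : pb c O1 ≅ Coh.structureModule T) {W : P.Opens} (e : Γ(O1, W)) (htop : (⊤ : Q.Opens) ≤ ι ⁻¹ᵁ W)
    {w : Γ(T, ⊤)} (hi : i.hom.app (c ⁻¹ᵁ W) (puSec c e) = T.presheaf.map (homOfLE le_top).op w) :
    ((Scheme.Modules.pullbackComp f ι).app O1 ≪≫ (Scheme.Modules.pullbackCongr hf).app O1 ≪≫ i).hom.app (f ⁻¹ᵁ ⊤)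
      (puSec f (res (pb ι O1) htop (puSec ι e))) = T.presheaf.map (homOfLE le_top).op w := by
  subst hf
  rw [TwistLib.puSec_res]
  refine (QCohLib.app_map _ (homOfLE (f.preimage_mono htop)) _).trans ?_
  rw [show ((Scheme.Modules.pullbackComp f ι).app O1 ≪≫ (Scheme.Modules.pullbackCongr rfl).app O1 ≪≫ i).hom.app
    (f ⁻¹ᵁ (ι ⁻¹ᵁ W)) (puSec f (puSec ι e)) = T.presheaf.map (homOfLE le_top).op w from by
      refine Eq.trans ?_ hi
      rw [← CohCmpLib.pullbackComp_puSec f ι O1 e]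
      simp [Scheme.Modules.pullbackCongr]
      rfl]
  exact congr($((T.presheaf.map_comp (homOfLE (le_top : (f ⁻¹ᵁ (ι ⁻¹ᵁ W)) ≤ ⊤)).op
    (homOfLE (f.preimage_mono htop)).op)) w).symm

/-- Over a trivialising affine open the bundle is closed in projective space. -/
theorem exists_closedImmersion_restrict (hP : KRR.IsProjBundle π E O1 q) {U : X.Opens} (hU : IsAffineOpen U)
    (φ : E.restrict U.ι ≅ FlatMod.freeMod (↑U) (n + 1)) : RelProj.IsHProjective (π ∣_ U) := by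
  classical
  haveI := hP.epi
  let hinv := isInvertible_O1 hP
  let PU : Scheme.{u} := (π ⁻¹ᵁ U).toScheme
  let ι : PU ⟶ P := (π ⁻¹ᵁ U).ι
  have hM : PicF.IsInvertible (pb ι O1) := AmpleDevLib.isInvertible_pb ι hinv
  have htop : (⊤ : PU.Opens) ≤ ι ⁻¹ᵁ (π ⁻¹ᵁ U) := fun x _ => x.2
  let e : Fin (n + 1) → Γ(O1, π ⁻¹ᵁ U) := eSec φ q
  let v : Fin (n + 1) → Γ(pb ι O1, ⊤) := fun k => res _ htop (puSec ι (e k))
  let D : Fin (n + 1) → P.Opens := fun k => genLocus' (e k) hinv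
  have hle : ∀ k, D k ≤ π ⁻¹ᵁ U := fun k => CycPBLib.genLocus'_le _ _
  have hgs : ∀ k, genSet hM (v k) = ι ⁻¹ᵁ D k := fun k => by
    refine Opens.ext (Set.ext fun z => ?_)
    show GenAt (pb ι O1) (v k) _ ↔ ι z ∈ D k
    rw [AmpleLib.genAt_res htop (puSec ι (e k)) (x := z) trivial, CycPBLib.genAt_puSec_iff' ι hinv (e k) (x := z) z.2]
    exact ⟨fun h => ⟨z.2, h⟩, fun h => h.2⟩
  obtain ⟨r, -, hr, hcj⟩ := AmpleThLib.exists_toPZ hM v fun z => by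
    obtain ⟨k, hk⟩ := CycPBLib.exists_genAt_eSec φ hinv (q := q) (z := ι z) z.2
    exact ⟨k, by rw [hgs]; exact ⟨z.2, hk⟩⟩
  obtain ⟨c, hc⟩ := CycPBLib.exists_charts hU φ hP
  haveI : IsAffine U.toScheme := hU
  let j : PU ⟶ CohB1.ProjSpaceOver n U.toScheme :=
    pullback.lift r (π ∣_ U) (specULiftZIsTerminal.hom_ext _ _)
  have hjt : j ≫ CohB1.ProjSpaceOver.toBase n U.toScheme = π ∣_ U := pullback.lift_snd _ _ _
  let fst' : CohB1.ProjSpaceOver n U.toScheme ⟶ PZ.{u} n := pullback.fst _ _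
  have hjf : j ≫ fst' = r := pullback.lift_fst _ _ _
  refine ⟨n, j, ?_, hjt⟩
  let V : Fin (n + 1) → (CohB1.ProjSpaceOver n U.toScheme).Opens := fun k => fst' ⁻¹ᵁ Dplus k
  have hVtop : iSup V = ⊤ := by
    refine top_le_iff.1 fun y _ => ?_
    obtain ⟨k, hk⟩ := (TopologicalSpace.Opens.mem_iSup).1 ((ChowLib.iSup_Dplus (n := n)).ge (Opens.mem_top (fst' y)))
    exact TopologicalSpace.Opens.mem_iSup.2 ⟨k, hk⟩
  rw [IsZariskiLocalAtTarget.iff_of_iSup_eq_top (P := @IsClosedImmersion) V hVtop]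
  intro k
  haveI : IsAffineHom fst' := by
    haveI : IsAffineHom (specULiftZIsTerminal.from U.toScheme) := isAffineHom_of_isAffine _
    exact MorphismProperty.pullback_fst _ _ ‹_›
  haveI : IsAffine (V k).toScheme := (ChowLib.isAffineOpen_Dplus k).preimage fst'
  -- the map to the chart
  let Vι := (V k).ι
  have hVk : (⊤ : (V k).toScheme.Opens) ≤ (Vι ≫ fst') ⁻¹ᵁ Dplus k := fun x _ => x.2
  obtain ⟨g, hg, hgv⟩ := exists_chLift hU n k
    (Vι ≫ CohB1.ProjSpaceOver.toBase n U.toScheme ≫ U.ι)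
    (eq_top_iff.2 fun x _ => ((Vι ≫ CohB1.ProjSpaceOver.toBase n U.toScheme) x).2)
    (fun l => (Vι ≫ fst').appLE (Dplus k) ⊤ hVk (cj k l)) (by
      rw [← AmpleThLib.coord_eq (Vι ≫ fst') k k hVk]
      exact RelProjLib.coord_self _ k hVk)
  -- the chart onto the piece
  haveI := (hc k).1
  have hjV : j ⁻¹ᵁ V k = ι ⁻¹ᵁ D k := by
    rw [← hgs k, ← hr k]
    show (j ≫ fst') ⁻¹ᵁ Dplus k = _
    rw [hjf]
  have hrange : Set.range (c k) ⊆ Set.range ((j ⁻¹ᵁ V k).ι ≫ ι) := by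
    rw [(hc k).2.1]
    intro z hz
    have hz' : z ∈ π ⁻¹ᵁ U := hle k hz
    have hm : (⟨z, hz'⟩ : PU) ∈ j ⁻¹ᵁ V k := hjV.ge hz
    exact ⟨⟨⟨z, hz'⟩, hm⟩, rfl⟩
  let c' : chS U n ⟶ (j ⁻¹ᵁ V k).toScheme := IsOpenImmersion.lift ((j ⁻¹ᵁ V k).ι ≫ ι) (c k) hrange
  have hc' : c' ≫ (j ⁻¹ᵁ V k).ι ≫ ι = c k := IsOpenImmersion.lift_fac _ _ _
  haveI : IsOpenImmersion c' := by
    haveI : IsOpenImmersion (c' ≫ (j ⁻¹ᵁ V k).ι ≫ ι) := hc'.symm ▸ (hc k).1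
    exact IsOpenImmersion.of_comp c' ((j ⁻¹ᵁ V k).ι ≫ ι)
  haveI : IsIso c' := by
    haveI : Surjective c' := ⟨fun z => by
      have hz : ((j ⁻¹ᵁ V k).ι ≫ ι) z ∈ Set.range (c k) := by
        rw [(hc k).2.1]
        exact hjV.le z.2
      obtain ⟨y, hy⟩ := hz
      refine ⟨y, ((j ⁻¹ᵁ V k).ι ≫ ι).isOpenEmbedding.injective ?_⟩
      rw [← hy, ← hc']
      rfl⟩
    exact (isIso_iff_isOpenImmersion_and_surjective c').2 ⟨inferInstance, inferInstance⟩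
  have hid : c' ≫ (j ∣_ V k) ≫ g = 𝟙 _ := by
    refine chLift_ext hU n k _ _ ?_ fun l => ?_
    · rw [Category.id_comp, Category.assoc, Category.assoc, hg, ← Category.assoc (j ∣_ V k),
        morphismRestrict_ι, Category.assoc, ← Category.assoc j, hjt, morphismRestrict_ι]
      rw [show c' ≫ (j ⁻¹ᵁ V k).ι ≫ (π ⁻¹ᵁ U).ι ≫ π = (c' ≫ (j ⁻¹ᵁ V k).ι ≫ ι) ≫ π by
        simp only [Category.assoc]; rfl, hc', (hc k).2.2.1]
      rfl
    · have hT : (⊤ : (chS U n).Opens) ≤ (c' ≫ (j ⁻¹ᵁ V k).ι) ⁻¹ᵁ (r ⁻¹ᵁ Dplus k) := fun x _ => by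
        show ((c' ≫ (j ⁻¹ᵁ V k).ι) ≫ r) x ∈ Dplus k
        rw [← hjf]
        exact (c' x).2
      have hcond : Cond (p := 𝟙 PU) (U := ⊤) v (c' ≫ (j ⁻¹ᵁ V k).ι) (chartVals Γ(X, U) n k) := by
        obtain ⟨i, hi⟩ := (hc k).2.2.2
        let f := c' ≫ (j ⁻¹ᵁ V k).ι
        have hf : f ≫ ι = c k := by rw [Category.assoc]; exact hc'
        refine ⟨(Scheme.Modules.pullbackComp f ι).app O1 ≪≫ (Scheme.Modules.pullbackCongr hf).app O1 ≪≫ i, fun m => ?_⟩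
        exact cond_pull_aux f ι hf i (e m) htop (hi m)
      have h1 : (c' ≫ (j ⁻¹ᵁ V k).ι).appLE (r ⁻¹ᵁ Dplus k) ⊤ hT (r.app (Dplus k) (cj k l)) =
          chartVals Γ(X, U) n k l :=
        CycPBLib.val_of_cond hcond (CycPBLib.chartVals_self _ n k) (le_top : r ⁻¹ᵁ Dplus k ≤ ⊤)
          (hcj k l).symm hT
      refine Eq.trans ?_ h1
      rw [Scheme.Hom.comp_appTop, Scheme.Hom.comp_appTop, CommRingCat.comp_apply, CommRingCat.comp_apply, hgv,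
        ← CommRingCat.comp_apply, ← CommRingCat.comp_apply]
      refine congrArg (fun ψ => ψ.hom (cj k l)) (?_ :
        (Vι ≫ fst').appLE (Dplus k) ⊤ hVk ≫ ((j ∣_ V k).appTop ≫ c'.appTop) =
          r.app (Dplus k) ≫ (c' ≫ (j ⁻¹ᵁ V k).ι).appLE (r ⁻¹ᵁ Dplus k) ⊤ hT)
      have hm : (c' ≫ (j ∣_ V k)) ≫ Vι ≫ fst' = (c' ≫ (j ⁻¹ᵁ V k).ι) ≫ r := by
        rw [← hjf]
        simp [Vι, morphismRestrict_ι_assoc, Category.assoc]
      rw [← Scheme.Hom.comp_appTop, show (c' ≫ (j ∣_ V k)).appTop = (c' ≫ (j ∣_ V k)).appLE ⊤ ⊤ le_top from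
        Scheme.Hom.app_eq_appLE _, Scheme.Hom.app_eq_appLE, Scheme.Hom.appLE_comp_appLE, Scheme.Hom.appLE_comp_appLE]
      exact appLE_congr' hm _ _
  have heq : (j ∣_ V k) ≫ g = inv c' := IsIso.eq_inv_of_hom_inv_id hid
  haveI : IsClosedImmersion ((j ∣_ V k) ≫ g) := heq ▸ inferInstance
  exact IsClosedImmersion.of_comp (j ∣_ V k) g

end ProjBunLib

end
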