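import Mathlib
import Groth.Agent.ProjBunLib.Proper
import Groth.Agent.AmpleThLib.Locus
import Groth.Agent.MiscFlat6.RelAmpleLocal
import Groth.Agent.RelProjLib.LocProj

/-!
# Properness and relative ampleness for projective bundles
-/

set_option autoImplicit false
set_option linter.style.haveILetI false
set_option linter.unusedSectionVars false

universe u

open AlgebraicGeometry CategoryTheory CategoryTheory.Limits Opposite TopologicalSpace
open AmpleLib (res GenOn GenAt)
open KFlatLib (pb puSec)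
open CycPBLib (eSec genLocus')
open TwistLib (genSet)

noncomputable section

namespace ProjBunLib

variable {X P : Scheme.{u}} {π : P ⟶ X} {O1 : P.Modules} {E : X.Modules} {q : pb π E ⟶ O1} {n : ℕ}

theorem isHProjective_affine_triv (hP : KRR.IsProjBundle π E O1 q) (hE : FlatMod.IsFinLocFreeOfRank (n + 1) E) (x : X) :
    ∃ U : X.Opens, IsAffineOpen U ∧ x ∈ U ∧ RelProj.IsHProjective (π ∣_ U) := by
  obtain ⟨U, hU, hx, ⟨φ⟩⟩ := exists_affine_triv hE x
  exact ⟨U, hU, hx, exists_closedImmersion_restrict hP hU φ⟩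

theorem isProper_of_isHProjective {Y S : Scheme.{u}} {f : Y ⟶ S} (h : RelProj.IsHProjective f) : IsProper f := by
  obtain ⟨m, i, hi, rfl⟩ := h
  haveI := ChowLib.isProper_toBase m S
  infer_instance

/-- A projective bundle is proper. -/
theorem isProper (hP : KRR.IsProjBundle π E O1 q) (hE : FlatMod.IsFinLocFreeOfRank (n + 1) E) : IsProper π := by
  choose U hU hx h using isHProjective_affine_triv hP hE
  refine (IsZariskiLocalAtTarget.iff_of_iSup_eq_top (P := @IsProper) U
    (top_le_iff.1 fun x _ => TopologicalSpace.Opens.mem_iSup.2 ⟨x, hx x⟩)).2 fun x => ?_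
  exact isProper_of_isHProjective (h x)

/-- A projective bundle is locally projective. -/
theorem isLocallyProjective (hP : KRR.IsProjBundle π E O1 q) (hE : FlatMod.IsFinLocFreeOfRank (n + 1) E) :
    RelProj.IsLocallyProjective π :=
  RelProjLib.isLocallyProjective_iff.2 fun x =>
    let ⟨U, _, hx, h⟩ := isHProjective_affine_triv hP hE x
    ⟨U, hx, h⟩

/-- The tautological module is ample over the base. -/
theorem isRelAmple (hP : KRR.IsProjBundle π E O1 q) (hE : FlatMod.IsFinLocFreeOfRank (n + 1) E) :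
    RelAmple.IsRelAmple π O1 := by
  classical
  haveI := hP.epi
  haveI := isProper hP hE
  haveI : Coh.IsQCoh E := FinLFAnn.isQCoh_of_isFinLocFree fun y => by
    obtain ⟨U, hyU, hU⟩ := hE y
    exact ⟨U, n + 1, hyU, hU⟩
  refine MiscFlat6.isRelAmple_of_local π fun x => ?_
  obtain ⟨W₀, hxW, ⟨φ₀⟩⟩ := hE x
  refine ⟨W₀, hxW, fun V hV hVW => ?_⟩
  obtain ⟨b⟩ := FittLib.nonempty_basis_of_iso E φ₀ (V := V) hVW
  obtain ⟨φ⟩ := OmegaAffLib.nonempty_restrict_iso_freeMod hV E b
  have hinv := isInvertible_O1 hP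
  let ι := (π ⁻¹ᵁ V).ι
  have hM : PicF.IsInvertible (pb ι O1) := AmpleDevLib.isInvertible_pb ι hinv
  refine AmpleDevLib.isAmple_of_iso hM (AmpleThLib.restrict_isInvertible hinv ι)
    ((Scheme.Modules.restrictFunctorIsoPullback ι).app O1).symm ?_
  refine (AmpleThLib.isAmple_iff (hL := hM)).2 ⟨isCompact_iff_compactSpace.1 (π.isCompact_preimage hV.isCompact), fun z => ?_⟩
  obtain ⟨k, hk⟩ := CycPBLib.exists_genAt_eSec φ hinv (q := q) (z := ι z) z.2
  obtain ⟨c, hc⟩ := CycPBLib.exists_charts hV φ hP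
  have htop : (⊤ : (π ⁻¹ᵁ V).toScheme.Opens) ≤ ι ⁻¹ᵁ (π ⁻¹ᵁ V) := fun y _ => y.2
  let v : Γ(pb ι O1, ⊤) := res _ htop (puSec ι (eSec φ q k))
  have hgs : genSet hM v = ι ⁻¹ᵁ genLocus' (eSec φ q k) hinv := by
    refine Opens.ext (Set.ext fun y => ?_)
    show GenAt (pb ι O1) v _ ↔ ι y ∈ genLocus' (eSec φ q k) hinv
    rw [AmpleLib.genAt_res htop (puSec ι (eSec φ q k)) (x := y) trivial,
      CycPBLib.genAt_puSec_iff' ι hinv (eSec φ q k) (x := y) y.2]
    exact ⟨fun h => ⟨y.2, h⟩, fun h => h.2⟩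
  refine ⟨1, genSet hM v, one_pos, ⟨AmpleThLib.pS v 1, AmpleThLib.genSet_pS hM v one_pos⟩, ?_, ?_⟩
  · rw [hgs]; exact ⟨z.2, hk⟩
  · rw [hgs]
    haveI := (hc k).1
    have hD : IsAffineOpen (genLocus' (eSec φ q k) hinv) := by
      have h1 := isAffineOpen_opensRange (c k)
      rwa [show (c k).opensRange = genLocus' (eSec φ q k) hinv from Opens.ext (hc k).2.1] at h1
    exact hD.preimage_of_isOpenImmersion ι (by
      rw [Scheme.Opens.opensRange_ι]
      exact CycPBLib.genLocus'_le _ _)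

end ProjBunLib

end
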