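import Mathlib
import Groth.Prelude.Def_RelProj
import Groth.Agent.ProjBunLib.Props
import Groth.Agent.CycPBLib.WhitMain
import Groth.Agent.CycPBLib.ProjBC
import Groth.Agent.LinSysLib.AmpleProj
import Groth.Agent.CycLimLib.Gen
import Groth.Agent.CycAffLib.Fibre
import Groth.Agent.SeesawLib.Ranks

/-!
# Towers of projective bundles
-/

set_option autoImplicit false
set_option linter.style.haveILetI false
set_option linter.unusedSectionVars false

universe u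

open AlgebraicGeometry CategoryTheory CategoryTheory.Limits Opposite TopologicalSpace
open KFlatLib (pb)

noncomputable section

namespace ProjBunLib

variable {X P : Scheme.{u}}

/-- The base change condition of a splitting morphism. -/
def InjPull (π : P ⟶ X) (δ : X → ℤ) (d : ℕ) : Prop :=
  ∀ (Y : Scheme.{u}) (f : Y ⟶ X) [LocallyOfFiniteType f] (δY : Y → ℤ), Cyc.IsSetup Y δY → Cyc.DeltaCompat f δY δ →
    ∀ (PY : Scheme.{u}) (πY : PY ⟶ Y) (g : PY ⟶ P), IsPullback g πY π f →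
      ∀ (δPY : PY → ℤ), Cyc.IsSetup PY δPY → Cyc.DeltaCompat πY δPY δY → Cyc.HasRelDim πY d ∧
        ∀ (k : ℤ) (α : AlgebraicCycle Y ℤ), α ∈ Cyc.Zk Y δY k → ∀ β : AlgebraicCycle PY ℤ,
          ⇑β = Cyc.pullFun πY δPY δY d ⇑α → Cyc.RatEquivZero δPY (k + d) β → Cyc.RatEquivZero δY k α

/-- A locally projective morphism with injective flat pullback. -/
structure Good (π : P ⟶ X) (δ : X → ℤ) (d : ℕ) : Prop where
  proper : IsProper π
  flat : Flat π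
  relDim : Cyc.HasRelDim π d
  ample : ∀ U : X.Opens, CompactSpace U.toScheme → QuasiSeparatedSpace U.toScheme →
    ∃ L : (π ⁻¹ᵁ U).toScheme.Modules, RelAmple.IsRelAmple (π ∣_ U) L
  inj : InjPull π δ d

theorem Good.isLocallyProjective {π : P ⟶ X} {δ : X → ℤ} {d : ℕ} (h : Good π δ d) :
    RelProj.IsLocallyProjective π := by
  intro x
  obtain ⟨U, hU, hx, -⟩ := exists_isAffineOpen_mem_and_subset (x := x) (U := (⊤ : X.Opens)) trivial
  haveI := h.proper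
  haveI : IsAffine U.toScheme := hU
  obtain ⟨L, hL⟩ := h.ample U inferInstance inferInstance
  exact ⟨U, hx, LinSysLib.isProjective_of_isRelAmple _ hL⟩

/-- A projective bundle is good. -/
theorem good_of_isProjBundle {E : X.Modules} {π : P ⟶ X} {O1 : P.Modules} {q : pb π E ⟶ O1} {n : ℕ}
    (hE : FlatMod.IsFinLocFreeOfRank (n + 1) E) (hP : KRR.IsProjBundle π E O1 q) {δ : X → ℤ}
    (hX : Cyc.IsSetup X δ) {δP : P → ℤ} (hPs : Cyc.IsSetup P δP) (hδ : Cyc.DeltaCompat π δP δ) :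
    Good π δ n := by
  haveI := isProper hP hE
  have hkey : ∀ (Y P' : Scheme.{u}) (p : P' ⟶ Y) (E' : Y.Modules) (O' : P'.Modules) (q' : pb p E' ⟶ O'),
      FlatMod.IsFinLocFreeOfRank (n + 1) E' → KRR.IsProjBundle p E' O' q' → ∀ (δY : Y → ℤ) (δ' : P' → ℤ),
      Cyc.IsSetup Y δY → Cyc.IsSetup P' δ' → Cyc.DeltaCompat p δ' δY → Flat p ∧ Cyc.HasRelDim p n ∧
        ∀ (k : ℤ) (α : AlgebraicCycle Y ℤ), α ∈ Cyc.Zk Y δY k → ∀ β : AlgebraicCycle P' ℤ,
          ⇑β = Cyc.pullFun p δ' δY n ⇑α → Cyc.RatEquivZero δ' (k + n) β → Cyc.RatEquivZero δY k α := by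
    intro Y P' p E' O' q' hE' hP' δY δ' hY hP's hδ'
    haveI := isProper hP' hE'
    obtain ⟨B, rfl, rfl⟩ := CycPBLib.exists_bun' hE' hP' hY hP's hδ'
    refine ⟨B.flat, B.relDim, fun k α hα β hβ h0 => ?_⟩
    have hβ' : β = B.pull α := DFunLike.coe_injective hβ
    subst hβ'
    let a : Fin (n + 1) → AlgebraicCycle Y ℤ := fun i => if (i : ℕ) = 0 then α else 0
    have ha : ∀ i : Fin (n + 1), a i ∈ Cyc.Zk Y B.δX (k + (i : ℕ)) := fun i => by
      by_cases hi : (i : ℕ) = 0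
      · simp only [a, if_pos hi, hi]
        simpa using hα
      · simp only [a, if_neg hi]
        exact fun _ _ => rfl
    have hsum : ∀ z, B.pull α z = ∑ i, B.caps B.std (B.pull (a i)) (i : ℕ) z := fun z => by
      rw [Finset.sum_eq_single (0 : Fin (n + 1)) (fun i _ hi => ?_) (fun h => absurd (Finset.mem_univ _) h)]
      · rfl
      · have hi' : (i : ℕ) ≠ 0 := fun h => hi (Fin.ext h)
        simp only [a, if_neg hi']
        have h0 : B.pull (0 : AlgebraicCycle Y ℤ) = 0 := DFunLike.ext _ _ fun y => by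
          rw [B.pull_apply]
          simp
        rw [h0, CycPBLib.Bun.caps_zero']
        rfl
    have h1 := B.independent k a ha (fun _ => B.std) (B.pull α) hsum h0 0
    simpa [a] using h1
  obtain ⟨hflat, hrd, -⟩ := hkey X P π E O1 q hE hP δ δP hX hPs hδ
  refine ⟨inferInstance, hflat, hrd, fun U _ _ => ⟨O1.restrict (π ⁻¹ᵁ U).ι, ?_⟩, ?_⟩
  · exact (MiscFlat6.isRelAmple_iff_openCover π O1 (fun b : Bool => if b then U else ⊤)
      (eq_top_iff.mpr (le_iSup (fun b : Bool => if b then U else (⊤ : X.Opens)) false))).mp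
      (isRelAmple hP hE) true
  · intro Y f _ δY hY hf PY πY g hsq δPY hPYs hδY
    obtain ⟨-, h2, h3⟩ := hkey Y PY πY _ _ _ (SeesawLib.isFinLocFreeOfRank_pullback f hE)
      (CycPBLib.isProjBundle_bc q hP hsq) δY δPY hY hPYs hδY
    exact ⟨h2, h3⟩

/-- Composition of good morphisms. -/
theorem Good.comp {P₂ : Scheme.{u}} {π₁ : P ⟶ X} {π₂ : P₂ ⟶ P} {δ : X → ℤ} {δ₁ : P → ℤ} {d₁ d₂ : ℕ}
    (h₁ : Good π₁ δ d₁) (h₂ : Good π₂ δ₁ d₂) (hδ₁ : Cyc.DeltaCompat π₁ δ₁ δ) :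
    Good (π₂ ≫ π₁) δ (d₂ + d₁) := by
  haveI := h₁.proper
  haveI := h₂.proper
  haveI := h₁.flat
  haveI := h₂.flat
  refine ⟨inferInstance, inferInstance, CycLimLib.hasRelDim_comp π₂ π₁ h₂.relDim h₁.relDim, fun U hc hs => ?_, ?_⟩
  · obtain ⟨K, hK⟩ := h₁.ample U hc hs
    haveI := hc
    haveI := hs
    haveI : CompactSpace (π₁ ⁻¹ᵁ U).toScheme := QuasiCompact.compactSpace_of_compactSpace (π₁ ∣_ U)
    haveI : QuasiSeparatedSpace (π₁ ⁻¹ᵁ U).toScheme := quasiSeparatedSpace_of_quasiSeparated (π₁ ∣_ U)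
    obtain ⟨L, hL⟩ := h₂.ample (π₁ ⁻¹ᵁ U) inferInstance inferInstance
    obtain ⟨n₀, -, hn⟩ := MiscFlat6.relAmple_comp_tensor_pullback_powers (π₂ ∣_ (π₁ ⁻¹ᵁ U)) (π₁ ∣_ U) L K hL hK
    rw [morphismRestrict_comp]
    exact ⟨_, hn n₀ le_rfl⟩
  · intro Y f _ δY hY hf PY πY g hsq δPY hPYs hδY
    let Q := pullback π₁ f
    let g₁ : Q ⟶ P := pullback.fst π₁ f
    let p₁ : Q ⟶ Y := pullback.snd π₁ f
    have hsq₁ : IsPullback g₁ p₁ π₁ f := IsPullback.of_hasPullback π₁ f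
    let p₂ : PY ⟶ Q := pullback.lift (g ≫ π₂) πY (by rw [Category.assoc, hsq.w])
    have hp₂ : p₂ ≫ p₁ = πY := pullback.lift_snd _ _ _
    have hg₂ : p₂ ≫ g₁ = g ≫ π₂ := pullback.lift_fst _ _ _
    have hsq₂ : IsPullback g p₂ π₂ g₁ := by
      refine IsPullback.of_bot ?_ hg₂.symm hsq₁
      rw [hp₂]
      exact hsq
    haveI : LocallyOfFiniteType g₁ := inferInstance
    haveI : LocallyOfFiniteType p₁ := inferInstance
    obtain ⟨δQ, hδQ⟩ := CycAffLib.exists_deltaCompat p₁ δY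
    have hQs : Cyc.IsSetup Q δQ := CycBivLib.isSetup_of_lft p₁ hY hδQ
    have hg₁ : Cyc.DeltaCompat g₁ δQ δ₁ := by
      refine CycBivLib.deltaCompat_cancel g₁ π₁ (g' := p₁ ≫ f) hsq₁.w hδ₁ ?_
      exact Bivar.deltaCompat_comp p₁ f δQ δY δ hδQ hf
    haveI : Flat p₁ := MorphismProperty.of_isPullback hsq₁ h₁.flat
    haveI : Flat p₂ := MorphismProperty.of_isPullback hsq₂ h₂.flat
    haveI : LocallyOfFiniteType p₂ := MorphismProperty.of_isPullback hsq₂ (inferInstanceAs (LocallyOfFiniteType π₂))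
    obtain ⟨hd₁, hinj₁⟩ := h₁.inj Y f δY hY hf Q p₁ g₁ hsq₁ δQ hQs hδQ
    have hδ₂ : Cyc.DeltaCompat p₂ δPY δQ := CycBivLib.deltaCompat_cancel p₂ p₁ hp₂ hδQ hδY
    obtain ⟨hd₂, hinj₂⟩ := h₂.inj Q g₁ δQ hQs hg₁ PY p₂ g hsq₂ δPY hPYs hδ₂
    refine ⟨hp₂ ▸ CycLimLib.hasRelDim_comp p₂ p₁ hd₂ hd₁, fun k α hα β hβ h0 => ?_⟩
    rw [← hp₂] at hβ
    let β₁ : AlgebraicCycle Q ℤ := CycC1Lib.pullCyc p₁ hQs (r := (d₁ : ℤ))
      (fun z hz => CycLimLib.delta_eq_of_gen p₁ hδQ hd₁ hz) α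
    have hS := Groth.Agent.S1857.result PY Q Y δPY δQ δY hPYs hQs hY p₂ p₁ d₂ d₁ hd₂ hd₁ hδ₂ hδQ k
    have hmem : β₁ ∈ Cyc.Zk Q δQ (k + d₁) := fun z hz => by
      show Cyc.pullFun p₁ δQ δY d₁ ⇑α z = 0
      by_contra hne
      simp only [Cyc.pullFun] at hne
      split_ifs at hne with hgz
      · exact hne (mul_eq_zero_of_left (hα _ fun he => hz (by rw [hgz, he])) _)
      · exact hne rfl
    have hβ' : ⇑β = Cyc.pullFun p₂ δPY δQ d₂ ⇑β₁ := by
      show ⇑β = Cyc.pullFun p₂ δPY δQ ((d₂ : ℕ) : ℤ) (Cyc.pullFun p₁ δQ δY ((d₁ : ℕ) : ℤ) ⇑α)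
      rw [hS.2 α hα, hβ]
      congr 1
    refine hinj₁ k α hα β₁ rfl (hinj₂ (k + d₁) β₁ hmem β hβ' ?_)
    rw [show k + (d₁ : ℤ) + d₂ = k + ((d₂ + d₁ : ℕ) : ℤ) by push_cast; ring]
    exact h0

end ProjBunLib

end
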