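import Mathlib
import Groth.Agent.MiscFlat6.FreeStalks
import Groth.Agent.CurveVBLib.Basic
import Groth.Agent.KFlatLib.StalkPull
import Groth.Agent.QCohLib.Coherent

/-!
# Sequences with an invertible quotient
-/

set_option autoImplicit false
set_option linter.style.haveILetI false
set_option linter.unusedSectionVars false

universe u

open AlgebraicGeometry CategoryTheory CategoryTheory.Limits Opposite TopologicalSpace

noncomputable section

namespace ProjBunLib

variable {X Y : Scheme.{u}} {S : ShortComplex X.Modules}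

theorem free_stalk_of_rank {N : ℕ} {E : X.Modules} (hE : FlatMod.IsFinLocFreeOfRank N E) (x : X) :
    Nonempty ((DerSch.stalkFunctor X x).obj E ≃ₗ[X.presheaf.stalk x] (Fin N → X.presheaf.stalk x)) := by
  obtain ⟨U, hxU, ⟨e⟩⟩ := hE x
  exact CurveVBLib.nonempty_stalk_pi_on e hxU

/-- On stalks a sequence with locally free quotient splits. -/
theorem nonempty_splitting (hS : S.ShortExact) {r : ℕ} (h₃ : FlatMod.IsFinLocFreeOfRank r S.X₃) (x : X) :
    Nonempty (S.map (DerSch.stalkFunctor X x)).Splitting := by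
  obtain ⟨e⟩ := free_stalk_of_rank h₃ x
  haveI : Module.Projective (X.presheaf.stalk x) ((DerSch.stalkFunctor X x).obj S.X₃) :=
    Module.Projective.of_equiv e.symm
  haveI : Projective (S.map (DerSch.stalkFunctor X x)).X₃ :=
    (IsProjective.iff_projective (R := X.presheaf.stalk x) ((DerSch.stalkFunctor X x).obj S.X₃)).1 inferInstance
  exact ⟨(hS.map_of_exact (DerSch.stalkFunctor X x)).splittingOfProjective⟩

/-- Pullback preserves a sequence with locally free quotient. -/
theorem shortExact_pullback (g : Y ⟶ X) (hS : S.ShortExact) {r : ℕ} (h₃ : FlatMod.IsFinLocFreeOfRank r S.X₃) :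
    (S.map (Scheme.Modules.pullback g)).ShortExact := by
  refine CurvLib.shortExact_of_stalks _ fun y => ?_
  obtain ⟨σ⟩ := nonempty_splitting hS h₃ (g y)
  let F := ModuleCat.extendScalars.{u, u, u} (g.stalkMap y).hom
  haveI : F.Additive := (ModuleCat.extendRestrictScalarsAdj (g.stalkMap y).hom).left_adjoint_additive
  refine ShortComplex.shortExact_of_iso (S.mapNatIso (KFlatLib.stalkPullIso g y)).symm ?_
  exact (σ.map F).shortExact

/-- The kernel of an epimorphism onto an invertible module is locally free. -/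
theorem rank_of_shortExact [IsLocallyNoetherian X] (hS : S.ShortExact) {n : ℕ}
    (h₂ : FlatMod.IsFinLocFreeOfRank (n + 1) S.X₂) (h₃ : FlatMod.IsFinLocFreeOfRank 1 S.X₃) :
    FlatMod.IsFinLocFreeOfRank n S.X₁ := by
  haveI := hS.mono_f
  have h1 : Coh.IsCoh S.X₁ := by
    have hk := QCohLib.isCoh_kernel S.g (CurvLib.isCoh_of_locFree h₂) (CurvLib.isCoh_of_locFree h₃).1
    exact QCohLib.isCoh_of_iso (IsLimit.conePointUniqueUpToIso (limit.isLimit _) hS.fIsKernel) hk
  haveI := h1.1
  have hst : ∀ x : X, Module.Free (X.presheaf.stalk x) ((DerSch.stalkFunctor X x).obj S.X₁) ∧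
      Module.finrank (X.presheaf.stalk x) ((DerSch.stalkFunctor X x).obj S.X₁) = n := by
    intro x
    obtain ⟨σ⟩ := nonempty_splitting hS h₃ x
    obtain ⟨e₂⟩ := free_stalk_of_rank h₂ x
    obtain ⟨e₃⟩ := free_stalk_of_rank h₃ x
    let T := S.map (DerSch.stalkFunctor X x)
    let φ : T.X₁ →ₗ[X.presheaf.stalk x] T.X₂ := T.f.hom
    let ρ : T.X₂ →ₗ[X.presheaf.stalk x] T.X₁ := σ.r.hom
    have hr : ρ ∘ₗ φ = LinearMap.id := by
      refine LinearMap.ext fun a => ?_
      exact congr($(σ.f_r) a)
    haveI : Module.Free (X.presheaf.stalk x) T.X₂ := Module.Free.of_equiv e₂.symm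
    haveI : Module.Finite (X.presheaf.stalk x) T.X₂ := Module.Finite.equiv e₂.symm
    haveI : Module.Projective (X.presheaf.stalk x) T.X₁ := Module.Projective.of_split φ ρ hr
    haveI : Module.Finite (X.presheaf.stalk x) T.X₁ :=
      Module.Finite.of_surjective ρ fun a => ⟨φ a, LinearMap.congr_fun hr a⟩
    haveI : Module.Free (X.presheaf.stalk x) T.X₁ := Module.free_of_flat_of_isLocalRing
    haveI : Module.Free (X.presheaf.stalk x) T.X₃ := Module.Free.of_equiv e₃.symm
    haveI : Module.Finite (X.presheaf.stalk x) T.X₃ := Module.Finite.equiv e₃.symm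
    refine ⟨inferInstanceAs (Module.Free (X.presheaf.stalk x) T.X₁), ?_⟩
    let w : T.X₂ ≃ₗ[X.presheaf.stalk x] T.X₁ × T.X₃ :=
      { toFun := fun b => (σ.r.hom b, T.g.hom b)
        invFun := fun p => T.f.hom p.1 + σ.s.hom p.2
        map_add' := fun a b => by simp
        map_smul' := fun a b => by simp
        left_inv := fun b => by
          exact congr($(σ.id) b)
        right_inv := fun p => Prod.ext (by
            simp only [map_add]
            rw [show σ.r.hom (T.f.hom p.1) = p.1 from congr($(σ.f_r) p.1),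
              show σ.r.hom (σ.s.hom p.2) = 0 from congr($(σ.s_r) p.2), add_zero]) (by
            simp only [map_add]
            rw [show T.g.hom (T.f.hom p.1) = 0 from congr($(T.zero) p.1),
              show T.g.hom (σ.s.hom p.2) = p.2 from congr($(σ.s_g) p.2), zero_add]) }
    have h := w.finrank_eq
    have h2 : Module.finrank (X.presheaf.stalk x) T.X₂ = n + 1 := e₂.finrank_eq.trans (Module.finrank_fin_fun _)
    have h3 : Module.finrank (X.presheaf.stalk x) T.X₃ = 1 := e₃.finrank_eq.trans (Module.finrank_fin_fun _)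
    rw [Module.finrank_prod, h2, h3] at h
    show Module.finrank (X.presheaf.stalk x) T.X₁ = n
    omega
  have hF : FlatMod.IsFinLocFree S.X₁ :=
    (MiscFlat6.isFP_and_free_iff (M := S.X₁)).1 ⟨QCohLib.isFP_of_isCoh _ h1, fun x => (hst x).1⟩
  intro x
  obtain ⟨U, m, hxU, ⟨e⟩⟩ := hF x
  obtain ⟨e'⟩ := CurveVBLib.nonempty_stalk_pi_on e hxU
  obtain rfl : m = n := by rw [← (hst x).2, e'.finrank_eq, Module.finrank_fin_fun]
  exact ⟨U, hxU, ⟨e⟩⟩

end ProjBunLib

end
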