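import Mathlib
import Groth.Agent.ProjBunLib.Ses
import Groth.Agent.SeesawLib.Ranks
import Groth.Agent.AmpleDevLib.Components
import Groth.Agent.CohCmpLib.LineBundle

/-!
# Filtrations by invertible modules
-/

set_option autoImplicit false
set_option linter.style.haveILetI false
set_option linter.unusedSectionVars false

universe u

open AlgebraicGeometry CategoryTheory CategoryTheory.Limits Opposite TopologicalSpace
open KFlatLib (pb)

noncomputable section

namespace ProjBunLib

variable {X Y : Scheme.{u}}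

/-- A chain with invertible successive quotients. -/
def HasFilt (r : ℕ) (F : X.Modules) : Prop :=
  ∃ (M : Fin (r + 1) → X.Modules) (L : Fin r → X.Modules)
    (a : ∀ j : Fin r, M (Fin.castSucc j) ⟶ M (Fin.succ j)) (b : ∀ j : Fin r, M (Fin.succ j) ⟶ L j),
    IsZero (M 0) ∧ Nonempty (M (Fin.last r) ≅ F) ∧ (∀ j, PicF.IsInvertible (L j)) ∧
    ∀ j, ∃ h : a j ≫ b j = 0, (ShortComplex.mk (a j) (b j) h).ShortExact

theorem HasFilt.of_iso {r : ℕ} {F F' : X.Modules} (h : HasFilt r F) (e : F ≅ F') : HasFilt r F' := by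
  obtain ⟨M, L, a, b, h0, ⟨i⟩, hL, hex⟩ := h
  exact ⟨M, L, a, b, h0, ⟨i ≪≫ e⟩, hL, hex⟩

theorem HasFilt.pb {r : ℕ} {F : X.Modules} (h : HasFilt r F) (g : Y ⟶ X) : HasFilt r (pb g F) := by
  obtain ⟨M, L, a, b, h0, ⟨i⟩, hL, hex⟩ := h
  haveI : (Scheme.Modules.pullback g).Additive :=
    (Scheme.Modules.pullbackPushforwardAdjunction g).left_adjoint_additive
  refine ⟨fun j => KFlatLib.pb g (M j), fun j => KFlatLib.pb g (L j), fun j => (Scheme.Modules.pullback g).map (a j),
    fun j => (Scheme.Modules.pullback g).map (b j), Functor.map_isZero _ h0, ⟨(Scheme.Modules.pullback g).mapIso i⟩,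
    fun j => AmpleDevLib.isInvertible_pb g (hL j), fun j => ?_⟩
  obtain ⟨h, hse⟩ := hex j
  exact ⟨_, shortExact_pullback g hse ((CohCmpLib.invertible_iff_rank_one _).1 (hL j))⟩

theorem ses_congr {A B C A' B' C' : X.Modules} (eA : A ≅ A') (eB : B ≅ B') (eC : C ≅ C') {f : A' ⟶ B'} {g : B' ⟶ C'}
    (h : f ≫ g = 0) (hse : (ShortComplex.mk f g h).ShortExact) :
    ∃ (f' : A ⟶ B) (g' : B ⟶ C) (h' : f' ≫ g' = 0), (ShortComplex.mk f' g' h').ShortExact :=
  ⟨eA.hom ≫ f ≫ eB.inv, eB.hom ≫ g ≫ eC.inv, by simp [reassoc_of% h],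
    ShortComplex.shortExact_of_iso (ShortComplex.isoMk eA.symm eB.symm eC.symm (by simp) (by simp)) hse⟩

theorem HasFilt.extend {r : ℕ} {K F Q : X.Modules} (h : HasFilt r K) {f : K ⟶ F} {g : F ⟶ Q} (hfg : f ≫ g = 0)
    (hse : (ShortComplex.mk f g hfg).ShortExact) (hQ : PicF.IsInvertible Q) : HasFilt (r + 1) F := by
  obtain ⟨M, L, a, b, h0, ⟨i⟩, hL, hex⟩ := h
  let M' : Fin (r + 2) → X.Modules := Fin.snoc M F
  let L' : Fin (r + 1) → X.Modules := Fin.snoc L Q
  have hstep : ∀ j : Fin (r + 1), ∃ (a' : M' (Fin.castSucc j) ⟶ M' (Fin.succ j)) (b' : M' (Fin.succ j) ⟶ L' j)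
      (h' : a' ≫ b' = 0), (ShortComplex.mk a' b' h').ShortExact := by
    intro j
    induction j using Fin.lastCases with
    | last =>
      refine ses_congr (eqToIso (?_ : _ = M (Fin.last r)) ≪≫ i) (eqToIso ?_) (eqToIso ?_) hfg hse
      · exact Fin.snoc_castSucc (α := fun _ => X.Modules) F M (Fin.last r)
      · rw [Fin.succ_last]
        exact Fin.snoc_last (α := fun _ => X.Modules) F M
      · exact Fin.snoc_last (α := fun _ => X.Modules) Q L
    | cast j =>
      obtain ⟨h', hse'⟩ := hex j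
      refine ses_congr (eqToIso ?_) (eqToIso ?_) (eqToIso ?_) h' hse'
      · exact Fin.snoc_castSucc (α := fun _ => X.Modules) F M (Fin.castSucc j)
      · rw [Fin.succ_castSucc]
        exact Fin.snoc_castSucc (α := fun _ => X.Modules) F M (Fin.succ j)
      · exact Fin.snoc_castSucc (α := fun _ => X.Modules) Q L j
  choose a' b' h' hse' using hstep
  refine ⟨M', L', a', b', ?_, ⟨eqToIso (Fin.snoc_last (α := fun _ => X.Modules) F M)⟩, ?_,
    fun j => ⟨h' j, hse' j⟩⟩
  · rw [show M' 0 = M 0 from Fin.snoc_castSucc (α := fun _ => X.Modules) F M 0]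
    exact h0
  · intro j
    induction j using Fin.lastCases with
    | last => simpa [L'] using hQ
    | cast j => simpa [L'] using hL j

theorem isZero_of_rank_zero {E : X.Modules} (hE : FlatMod.IsFinLocFreeOfRank 0 E) : IsZero E := by
  rw [KFlatLib.isZero_iff_forall_stalk]
  intro x
  obtain ⟨e⟩ := free_stalk_of_rank hE x
  haveI := e.toEquiv.subsingleton
  exact ModuleCat.isZero_of_subsingleton _

theorem hasFilt_zero {E : X.Modules} (hE : FlatMod.IsFinLocFreeOfRank 0 E) : HasFilt 0 E :=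
  ⟨fun _ => E, fun j => j.elim0, fun j => j.elim0, fun j => j.elim0, isZero_of_rank_zero hE, ⟨Iso.refl _⟩,
    fun j => j.elim0, fun j => j.elim0⟩

end ProjBunLib

end
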