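import Mathlib
import Groth.Agent.ProjBunLib.Good
import Groth.Agent.ProjBunLib.Filt
import Groth.Agent.CohCmpLib.TrivFibre

/-!
# Splitting morphisms
-/

set_option autoImplicit false
set_option linter.style.haveILetI false
set_option linter.unusedSectionVars false

universe u

open AlgebraicGeometry CategoryTheory CategoryTheory.Limits Opposite TopologicalSpace
open KFlatLib (pb)

noncomputable section

namespace ProjBunLib

/-- A bundle with its dimension function. -/
theorem exists_good_bundle {X : Scheme.{u}} {δ : X → ℤ} (hX : Cyc.IsSetup X δ) {n : ℕ} {E : X.Modules}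
    (hE : FlatMod.IsFinLocFreeOfRank (n + 1) E) :
    ∃ (P : Scheme.{u}) (π : P ⟶ X) (O1 : P.Modules) (q : pb π E ⟶ O1) (δP : P → ℤ),
      KRR.IsProjBundle π E O1 q ∧ Cyc.IsSetup P δP ∧ Cyc.DeltaCompat π δP δ ∧ Good π δ n := by
  obtain ⟨P, π, O1, q, hP⟩ := exists_isProjBundle hE
  haveI := isProper hP hE
  obtain ⟨δP, hδ⟩ := CycAffLib.exists_deltaCompat π δ
  have hPs := CycBivLib.isSetup_of_lft π hX hδ
  exact ⟨P, π, O1, q, δP, hP, hPs, hδ, good_of_isProjBundle hE hP hX hPs hδ⟩

/-- One module. -/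
theorem exists_split_one : ∀ (r : ℕ) (X : Scheme.{u}) (δ : X → ℤ), Cyc.IsSetup X δ → ∀ E : X.Modules,
    FlatMod.IsFinLocFreeOfRank r E → ∃ (P : Scheme.{u}) (π : P ⟶ X) (d : ℕ),
      Good π δ d ∧ HasFilt r (pb π E) := by
  intro r
  induction r with
  | zero =>
    intro X δ hX E hE
    obtain ⟨P, π, -, -, -, -, -, -, hg⟩ := exists_good_bundle hX (n := 0) (CohCmpLib.rank_one_structureModule X)
    exact ⟨P, π, 0, hg, hasFilt_zero (SeesawLib.isFinLocFreeOfRank_pullback π hE)⟩
  | succ n IH =>
    intro X δ hX E hE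
    obtain ⟨P, π, O1, q, δP, hP, hPs, hδ, hg⟩ := exists_good_bundle hX hE
    haveI := hPs.1
    haveI := hP.epi
    have hse : (ShortComplex.mk (kernel.ι q) q (kernel.condition q)).ShortExact :=
      { exact := ShortComplex.exact_of_f_is_kernel _ (kernelIsKernel q)
        mono_f := inferInstanceAs (Mono (kernel.ι q))
        epi_g := hP.epi }
    have hK : FlatMod.IsFinLocFreeOfRank n (kernel q) :=
      rank_of_shortExact hse (SeesawLib.isFinLocFreeOfRank_pullback π hE) hP.invertible
    obtain ⟨P', π', d, hg', hf'⟩ := IH P δP hPs (kernel q) hK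
    haveI : (Scheme.Modules.pullback π').Additive :=
      (Scheme.Modules.pullbackPushforwardAdjunction π').left_adjoint_additive
    refine ⟨P', π' ≫ π, d + n, hg.comp hg' hδ, ?_⟩
    refine (HasFilt.extend hf' (f := (Scheme.Modules.pullback π').map (kernel.ι q))
      (g := (Scheme.Modules.pullback π').map q) (by rw [← Functor.map_comp, kernel.condition, Functor.map_zero])
      (shortExact_pullback π' hse hP.invertible) ?_).of_iso ((Scheme.Modules.pullbackComp π' π).app E)
    exact AmpleDevLib.isInvertible_pb π' (isInvertible_O1 hP)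

/-- Finitely many modules. -/
theorem exists_split : ∀ (m : ℕ) (X : Scheme.{u}) (δ : X → ℤ), Cyc.IsSetup X δ → ∀ (E : Fin m → X.Modules)
    (rk : Fin m → ℕ), (∀ i, FlatMod.IsFinLocFreeOfRank (rk i) (E i)) →
      ∃ (P : Scheme.{u}) (π : P ⟶ X) (d : ℕ), Good π δ d ∧ ∀ i, HasFilt (rk i) (pb π (E i)) := by
  intro m
  induction m with
  | zero =>
    intro X δ hX E rk hE
    obtain ⟨P, π, -, -, -, -, -, -, hg⟩ := exists_good_bundle hX (n := 0) (CohCmpLib.rank_one_structureModule X)
    exact ⟨P, π, 0, hg, fun i => i.elim0⟩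
  | succ m IH =>
    intro X δ hX E rk hE
    obtain ⟨P, π, d, hg, hf⟩ := exists_split_one (rk (Fin.last m)) X δ hX (E (Fin.last m)) (hE _)
    haveI := hg.proper
    obtain ⟨δP, hδ⟩ := CycAffLib.exists_deltaCompat π δ
    have hPs := CycBivLib.isSetup_of_lft π hX hδ
    obtain ⟨P', π', d', hg', hf'⟩ := IH P δP hPs (fun i => pb π (E (Fin.castSucc i)))
      (fun i => rk (Fin.castSucc i)) fun i => SeesawLib.isFinLocFreeOfRank_pullback π (hE _)
    refine ⟨P', π' ≫ π, d' + d, hg.comp hg' hδ, fun i => ?_⟩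
    induction i using Fin.lastCases with
    | last => exact (hf.pb π').of_iso ((Scheme.Modules.pullbackComp π' π).app _)
    | cast i => exact (hf' i).of_iso ((Scheme.Modules.pullbackComp π' π).app _)

end ProjBunLib

end
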